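import Mathlib

/-!
Square matrices of size twenty-four over the field with two elements, packed into natural numbers.
-/

set_option autoImplicit false
set_option maxRecDepth 10000

namespace CfsgLib.Recognition.TrialitySpectrum

/-- Matrices over the field with two elements. -/
abbrev Mat24 : Type := Matrix (Fin 24) (Fin 24) (ZMod 2)

/-- The first column of the positions. -/
def cm : ℕ := 14742041600653298778164464186675034565339440968075561999656263336489234065757151420561541415618923938782311094303562262231923774852187994847031891473161258761755557889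

/-- A row. -/
def rm : ℕ := 16777215

/-- The matrix packed in a number: the bit `24 i + j` is the entry `(i, j)`. -/
def mat (n : ℕ) : Mat24 := Matrix.of fun i j => bif n.testBit (24 * i.val + j.val) then 1 else 0

/-- The bits at the multiples of 24 below `24 m`. -/
def cmask : ℕ → ℕ
  | 0 => 0
  | m + 1 => 1 + 2 ^ 24 * cmask m

/-- Sums of outer products. -/
def part (a b : ℕ) : ℕ → ℕ
  | 0 => 0
  | k + 1 => Nat.xor (Nat.mul (Nat.land (Nat.shiftRight a k) cm) (Nat.land (Nat.shiftRight b (24 * k)) rm))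
      (part a b k)

/-- The product. -/
def mulN (a b : ℕ) : ℕ :=
  (Nat.xor (Nat.mul (Nat.land (Nat.shiftRight a 23) cm) (Nat.land (Nat.shiftRight b 552) rm)) (Nat.xor (Nat.mul (Nat.land (Nat.shiftRight a 22) cm) (Nat.land (Nat.shiftRight b 528) rm)) (Nat.xor (Nat.mul (Nat.land (Nat.shiftRight a 21) cm) (Nat.land (Nat.shiftRight b 504) rm)) (Nat.xor (Nat.mul (Nat.land (Nat.shiftRight a 20) cm) (Nat.land (Nat.shiftRight b 480) rm)) (Nat.xor (Nat.mul (Nat.land (Nat.shiftRight a 19) cm) (Nat.land (Nat.shiftRight b 456) rm)) (Nat.xor (Nat.mul (Nat.land (Nat.shiftRight a 18) cm) (Nat.land (Nat.shiftRight b 432) rm)) (Nat.xor (Nat.mul (Nat.land (Nat.shiftRight a 17) cm) (Nat.land (Nat.shiftRight b 408) rm)) (Nat.xor (Nat.mul (Nat.land (Nat.shiftRight a 16) cm) (Nat.land (Nat.shiftRight b 384) rm)) (Nat.xor (Nat.mul (Nat.land (Nat.shiftRight a 15) cm) (Nat.land (Nat.shiftRight b 360) rm)) (Nat.xor (Nat.mul (Nat.land (Nat.shiftRight a 14) cm) (Nat.land (Nat.shiftRight b 336) rm)) (Nat.xor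 (Nat.mul (Nat.land (Nat.shiftRight a 13) cm) (Nat.land (Nat.shiftRight b 312) rm)) (Nat.xor (Nat.mul (Nat.land (Nat.shiftRight a 12) cm) (Nat.land (Nat.shiftRight b 288) rm)) (Nat.xor (Nat.mul (Nat.land (Nat.shiftRight a 11) cm) (Nat.land (Nat.shiftRight b 264) rm)) (Nat.xor (Nat.mul (Nat.land (Nat.shiftRight a 10) cm) (Nat.land (Nat.shiftRight b 240) rm)) (Nat.xor (Nat.mul (Nat.land (Nat.shiftRight a 9) cm) (Nat.land (Nat.shiftRight b 216) rm)) (Nat.xor (Nat.mul (Nat.land (Nat.shiftRight a 8) cm) (Nat.land (Nat.shiftRight b 192) rm)) (Nat.xor (Nat.mul (Nat.land (Nat.shiftRight a 7) cm) (Nat.land (Nat.shiftRight b 168) rm)) (Nat.xor (Nat.mul (Nat.land (Nat.shiftRight a 6) cm) (Nat.land (Nat.shiftRight b 144) rm)) (Nat.xor (Nat.mul (Nat.land (Nat.shiftRight a 5) cm) (Nat.land (Nat.shiftRight b 120) rm)) (Nat.xor (Nat.mul (Nat.land (Nat.shiftRight a 4) cm) (Nat.land (Nat.shiftRight b 96) rm)) (Nat.xor (Nat.mul (Nat.land (Nat.shiftRight a 3) cm) (Nat.land (Nat.shiftRight b 72) rm))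 (Nat.xor (Nat.mul (Nat.land (Nat.shiftRight a 2) cm) (Nat.land (Nat.shiftRight b 48) rm)) (Nat.xor (Nat.mul (Nat.land (Nat.shiftRight a 1) cm) (Nat.land (Nat.shiftRight b 24) rm)) (Nat.xor (Nat.mul (Nat.land (Nat.shiftRight a 0) cm) (Nat.land (Nat.shiftRight b 0) rm)) 0))))))))))))))))))))))))

theorem mulN_eq (a b : ℕ) : mulN a b = part a b 24 := rfl

theorem cm_eq : cm = cmask 24 := by decide +kernel

theorem and_cmask (m a : ℕ) : a &&& cmask (m + 1) = 2 ^ 24 * ((a >>> 24) &&& cmask m) + (a &&& 1) := by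
  refine Nat.eq_of_testBit_eq fun i => ?_
  have h1 : a &&& 1 < 2 ^ 24 := lt_of_le_of_lt (Nat.and_le_right) (by norm_num)
  rw [cmask, Nat.add_comm 1, Nat.testBit_two_pow_mul_add _ h1,
    Nat.testBit_and, Nat.testBit_two_pow_mul_add _ (by norm_num : 1 < 2 ^ 24)]
  by_cases hi : i < 24
  · rw [if_pos hi, if_pos hi, Nat.testBit_and]
  · rw [if_neg hi, if_neg hi, Nat.testBit_and, Nat.testBit_shiftRight, Nat.add_sub_cancel' (by omega)]

theorem testBit_outer : ∀ (m a r i j : ℕ), r < 2 ^ 24 → i < m → j < 24 →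
    ((a &&& cmask m) * r).testBit (24 * i + j) = (a.testBit (24 * i) && r.testBit j)
  | 0, _, _, _, _, _, hi, _ => absurd hi (Nat.not_lt_zero _)
  | m + 1, a, r, i, j, hr, hi, hj => by
    have h1 : (a &&& 1) * r < 2 ^ 24 :=
      lt_of_le_of_lt (Nat.mul_le_mul_right r Nat.and_le_right) (by rwa [one_mul])
    rw [and_cmask, add_mul, mul_assoc, Nat.testBit_two_pow_mul_add _ h1]
    cases i with
    | zero =>
      rw [if_pos (by omega), Nat.and_one_is_mod, Nat.mul_zero, Nat.zero_add, Nat.testBit_zero]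
      rcases Nat.mod_two_eq_zero_or_one a with h | h <;> simp [h]
    | succ i =>
      rw [if_neg (by omega), show 24 * (i + 1) + j - 24 = 24 * i + j by omega,
        testBit_outer m (a >>> 24) r i j hr (by omega) hj, Nat.testBit_shiftRight,
        show 24 + 24 * i = 24 * (i + 1) by ring]

theorem mat_zero : mat 0 = 0 := by ext i j; simp [mat]

theorem mat_xor (a b : ℕ) : mat (Nat.xor a b) = mat a + mat b := by
  ext i j
  show (bif (a ^^^ b).testBit _ then (1 : ZMod 2) else 0) = (bif a.testBit _ then 1 else 0) + _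
  rw [Nat.testBit_xor]
  show _ = _ + (bif b.testBit _ then (1 : ZMod 2) else 0)
  cases a.testBit (24 * i.val + j.val) <;> cases b.testBit (24 * i.val + j.val) <;> decide

theorem mat_part (a b : ℕ) : ∀ m ≤ 24, ∀ i j : Fin 24,
    mat (part a b m) i j = ∑ k ∈ Finset.range m, (bif a.testBit (24 * i.val + k) then (1 : ZMod 2) else 0) *
      (bif b.testBit (24 * k + j.val) then 1 else 0)
  | 0, _, i, j => by simp [part, mat]
  | m + 1, hm, i, j => by
    rw [Finset.sum_range_succ, ← mat_part a b m (by omega) i j, part, mat_xor, add_comm, Matrix.add_apply]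
    congr 1
    show (bif (((a >>> m) &&& cm) * ((b >>> (24 * m)) &&& rm)).testBit _ then (1 : ZMod 2) else 0) = _
    have hrm : rm = 2 ^ 24 - 1 := by decide +kernel
    rw [cm_eq, testBit_outer 24 _ _ _ _ (lt_of_le_of_lt Nat.and_le_right (by rw [hrm]; norm_num)) i.2 j.2,
      Nat.testBit_and, Nat.testBit_shiftRight, Nat.testBit_shiftRight, hrm, Nat.testBit_two_pow_sub_one,
      decide_eq_true j.2, Bool.and_true, add_comm m]
    cases a.testBit (24 * i.val + m) <;> cases b.testBit (24 * m + j.val) <;> decide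

theorem mat_mulN (a b : ℕ) : mat (mulN a b) = mat a * mat b := by
  ext i j
  rw [mulN_eq, mat_part a b 24 le_rfl, Matrix.mul_apply, ← Fin.sum_univ_eq_sum_range
    (fun k => (bif a.testBit (24 * i.val + k) then (1 : ZMod 2) else 0) *
      (bif b.testBit (24 * k + j.val) then 1 else 0))]
  rfl

end CfsgLib.Recognition.TrialitySpectrum
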