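import Cfsg.Agent.Lib.Recognition.TrialitySpectrum.BitMat
import Cfsg.Agent.Lib.Recognition.TrialitySpectrum.Data

/-!
Checks on packed matrices for the reduction of every element of the triality group to a short list.
-/

set_option autoImplicit false

namespace CfsgLib.Recognition.TrialitySpectrum

/-- An element of the positive part. -/
def uel (p : ℕ × ℕ) : ℕ := mulN (partA.getD p.1 0) (partB.getD p.2 0)

/-- The indices of the positive part are in range. -/
def uok (p : ℕ × ℕ) : Bool := Nat.blt p.1 128 && Nat.blt p.2 32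

/-- The product of a word in the positive generators. -/
def wordN (l : List ℕ) : ℕ := l.foldr (fun k r => mulN (posGens.getD k 0) r) one

/-- The vanishing of the sum of the first `k` powers, or the vanishing of a power minus one, by code. -/
def chkOrd (g c : ℕ) : Bool :=
  bif Nat.beq c 0 then Nat.beq (mulN (mulN g g) (mulN g g)) one
  else bif Nat.beq c 1 then
    Nat.beq (mulN (mulN g g) (mulN (mulN g g) (mulN g g))) one
  else bif Nat.beq c 2 then
    Nat.beq (mulN (mulN g g) (mulN (mulN (mulN g g) (mulN g g))
      (mulN (mulN (mulN g g) (mulN g g)) (mulN (mulN g g) (mulN g g))))) one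
  else bif Nat.beq c 3 then
    Nat.beq (mulN (mulN (Nat.xor one g) (Nat.xor one (mulN g g)))
      (Nat.xor one (mulN (mulN g g) (mulN g g)))) 0
  else bif Nat.beq c 4 then
    Nat.beq (mulN (mulN (Nat.xor one (Nat.xor g (mulN g g))) (Nat.xor one (mulN g (mulN g g))))
      (Nat.xor one (mulN (mulN g (mulN g g)) (mulN g (mulN g g))))) 0
  else bif Nat.beq c 5 then
    Nat.beq (Nat.xor one (mulN g
      (mulN (mulN (Nat.xor one (Nat.xor g (mulN g g))) (Nat.xor one (mulN g (mulN g g))))
        (Nat.xor one (mulN (mulN g (mulN g g)) (mulN g (mulN g g))))))) 0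
  else bif Nat.beq c 6 then
    Nat.beq (mulN (mulN (Nat.xor one (Nat.xor g (mulN g g)))
      (Nat.xor one (Nat.xor (mulN g (mulN g g)) (mulN (mulN g (mulN g g)) (mulN g (mulN g g))))))
      (Nat.xor one (mulN (mulN g (mulN g g)) (mulN (mulN g (mulN g g)) (mulN g (mulN g g)))))) 0
  else bif Nat.beq c 7 then
    Nat.beq (mulN (Nat.xor one (mulN g (mulN (Nat.xor one (Nat.xor g (mulN g g))) (Nat.xor one (mulN g (mulN g g))))))
      (Nat.xor one (Nat.xor
        (mulN g (mulN (mulN g (mulN g g)) (mulN g (mulN g g))))
        (mulN (mulN g (mulN (mulN g (mulN g g)) (mulN g (mulN g g))))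
          (mulN g (mulN (mulN g (mulN g g)) (mulN g (mulN g g)))))))) 0
  else bif Nat.beq c 8 then
    Nat.beq (mulN
      (mulN (Nat.xor one (mulN g (mulN (Nat.xor one (Nat.xor g (mulN g g))) (Nat.xor one (mulN g (mulN g g))))))
        (Nat.xor one (mulN g (mulN (mulN g (mulN g g)) (mulN g (mulN g g))))))
      (Nat.xor one (mulN (mulN g (mulN (mulN g (mulN g g)) (mulN g (mulN g g))))
        (mulN g (mulN (mulN g (mulN g g)) (mulN g (mulN g g))))))) 0
  else false

/-- One row of a cell. -/
def chkRow (zn a code : ℕ) (kone : Bool) (mask : ℕ) : Bool :=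
  (List.range 32).all fun l =>
    let c := (code >>> (4 * l)) % 16
    (kone && !(mask.testBit l)) || chkOrd (mulN (mulN a (partB.getD l 0)) zn) c

/-- A cell. -/
def chkCell (w : ℕ) (codes : List (List ℕ)) : Bool :=
  let k := kw.getD w 0
  (List.range (bif Nat.beq k 1 then 7 else 1)).all fun j => (List.range 128).all fun i =>
    chkRow (mulN (zp.getD j 0) (nw.getD w 0)) (partA.getD i 0) ((codes.getD j []).getD i 0)
      (Nat.beq k 1) (repMask.getD i 0)

end CfsgLib.Recognition.TrialitySpectrum
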