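import Cfsg.Agent.Lib.Recognition.TrialitySpectrum.Rules
import Cfsg.Agent.Lib.Recognition.TrialitySpectrum.Case0
import Cfsg.Agent.Lib.Recognition.TrialitySpectrum.Case1
import Cfsg.Agent.Lib.Recognition.TrialitySpectrum.Case2
import Cfsg.Agent.Lib.Recognition.TrialitySpectrum.Case3
import Cfsg.Agent.Lib.Recognition.TrialitySpectrum.Case4
import Cfsg.Agent.Lib.Recognition.TrialitySpectrum.Case5
import Cfsg.Agent.Lib.Recognition.TrialitySpectrum.Case6
import Cfsg.Agent.Lib.Recognition.TrialitySpectrum.Case7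
import Cfsg.Agent.Lib.Recognition.TrialitySpectrum.Case8
import Cfsg.Agent.Lib.Recognition.TrialitySpectrum.Case9
import Cfsg.Agent.Lib.Recognition.TrialitySpectrum.Case10
import Cfsg.Agent.Lib.Recognition.TrialitySpectrum.Case11

/-!
Every element of the group generated by the root matrices satisfies a short equation.
-/

set_option autoImplicit false
set_option maxRecDepth 10000

namespace CfsgLib.Recognition.TrialitySpectrum

open Finset

/-- A short equation for a matrix. -/
def Ord (x : Mat24) : Prop :=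
  (∃ k ∈ [4, 6, 14], x ^ k = 1) ∨ ∃ k ∈ [8, 12, 13, 18, 21, 28], ∑ i ∈ range k, x ^ i = 0

theorem Ord.conj (c : Mat24ˣ) {x : Mat24} (h : Ord x) :
    Ord ((c : Mat24) * x * ((c⁻¹ : Mat24ˣ) : Mat24)) := by
  rcases h with ⟨k, hk, e⟩ | ⟨k, hk, e⟩
  · refine Or.inl ⟨k, hk, ?_⟩
    rw [Units.conj_pow, e, mul_one, Units.mul_inv]
  · refine Or.inr ⟨k, hk, ?_⟩
    simp_rw [Units.conj_pow]
    rw [← Finset.sum_mul, ← Finset.mul_sum, e, mul_zero, zero_mul]

theorem mat_one : mat one = 1 := by decide +kernel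

attribute [local irreducible] partA partB zp ns nw xs posGens moveA moveB cells gens wordA wordB lmulA zA zB zn kw
  xsIdx repMask negGens mulN one mat

theorem all_range {n : ℕ} {p : ℕ → Bool} (h : (List.range n).all p = true) {i : ℕ} (hi : i < n) : p i = true :=
  List.all_eq_true.mp h i (List.mem_range.mpr hi)

theorem mat_of_beq {a b : ℕ} (h : Nat.beq a b = true) : mat a = mat b := by rw [Nat.eq_of_beq_eq_true h]

theorem beq_true_iff {a b : ℕ} : Nat.beq a b = true ↔ a = b :=
  ⟨Nat.eq_of_beq_eq_true, fun h => h ▸ Nat.beq_refl a⟩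

theorem blt_iff {a b : ℕ} : Nat.blt a b = true ↔ a < b :=
  ⟨fun h => Nat.le_of_ble_eq_true h, fun h => Nat.ble_eq_true_of_le h⟩

/-- The torus element. -/
noncomputable def Z : Mat24 := mat (zp.getD 1 0)

/-- A fundamental reflection. -/
noncomputable def N (s : ℕ) : Mat24 := mat (ns.getD s 0)

/-- A representative of a Weyl element. -/
noncomputable def Nw (w : ℕ) : Mat24 := mat (nw.getD w 0)

/-- A simple root element. -/
noncomputable def X (s c : ℕ) : Mat24 := mat ((xs.getD s []).getD c 0)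

/-- The positive part. -/
noncomputable def U : Submonoid Mat24 :=
  Submonoid.closure {m | ∃ k < 4, m = mat (posGens.getD k 0)}

theorem zp_eq : ∀ i < 7, mat (zp.getD i 0) = Z ^ i := by
  intro i hi
  induction i with
  | zero =>
    have := basic
    simp only [Bool.and_eq_true] at this
    rw [mat_of_beq this.1.1.1.1.2, mat_one, pow_zero]
  | succ i ih =>
    have h := mat_of_beq (all_range torus_ok (show i < 7 by omega))
    rw [Nat.mod_eq_of_lt hi, mat_mulN, ih (by omega)] at h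
    rw [← h, pow_succ]; rfl

theorem Z_pow_seven : Z ^ 7 = 1 := by
  have h := mat_of_beq (all_range torus_ok (show 6 < 7 by norm_num))
  rw [mat_mulN, zp_eq 6 (by norm_num), show (6 + 1) % 7 = 0 from rfl, zp_eq 0 (by norm_num)] at h
  rw [pow_succ]; exact h.trans (pow_zero _)

theorem Z_pow_mod (i : ℕ) : Z ^ i = Z ^ (i % 7) := by
  conv_lhs => rw [← Nat.mod_add_div i 7, pow_add, pow_mul, Z_pow_seven, one_pow, mul_one]

theorem wordN_mem {l : List ℕ} (h : ∀ k ∈ l, k < 4) : mat (wordN l) ∈ U := by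
  induction l with
  | nil => rw [show wordN [] = one from rfl, mat_one]; exact U.one_mem
  | cons a l ih =>
    rw [show wordN (a :: l) = mulN (posGens.getD a 0) (wordN l) from rfl, mat_mulN]
    exact U.mul_mem (Submonoid.subset_closure ⟨a, h a List.mem_cons_self, rfl⟩)
      (ih fun k hk => h k (List.mem_cons_of_mem _ hk))

theorem partA_mem {i : ℕ} (hi : i < 128) : mat (partA.getD i 0) ∈ U := by
  have h := all_range wordA_ok hi
  simp only [Bool.and_eq_true, List.all_eq_true] at h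
  rw [← mat_of_beq h.2]
  exact wordN_mem fun k hk => blt_iff.mp (h.1 k hk)

/-- The submonoid of words in the basis of the second factor. -/
theorem partB_mem_closure {j : ℕ} (hj : j < 32) :
    mat (partB.getD j 0) ∈ Submonoid.closure {m | ∃ b < 5, m = mat (partB.getD (2 ^ b) 0)} := by
  have h := mat_of_beq (all_range partB_basis hj)
  rw [← h]
  generalize hL : List.range 5 = L
  have hlt : ∀ b ∈ L, b < 5 := fun b hb => by rw [← hL] at hb; exact List.mem_range.mp hb
  clear hL h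
  induction L with
  | nil => rw [List.foldr_nil, mat_one]; exact Submonoid.one_mem _
  | cons a L ih =>
    have ih := ih fun b hb => hlt b (List.mem_cons_of_mem _ hb)
    rw [List.foldr_cons]
    cases j.testBit a with
    | false => exact ih
    | true =>
      simp only [cond_true]
      rw [mat_mulN]
      exact Submonoid.mul_mem _ (Submonoid.subset_closure ⟨a, hlt a List.mem_cons_self, rfl⟩) ih

theorem partB_mem {j : ℕ} (hj : j < 32) : mat (partB.getD j 0) ∈ U := by
  refine Submonoid.closure_le.mpr ?_ (partB_mem_closure hj)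
  rintro _ ⟨b, hb, rfl⟩
  have h := all_range wordB_ok hb
  simp only [Bool.and_eq_true, List.all_eq_true] at h
  rw [← mat_of_beq h.2]
  exact wordN_mem fun k hk => blt_iff.mp (h.1 k hk)

theorem uel_mem {p : ℕ × ℕ} (hp : uok p = true) : mat (uel p) ∈ U := by
  simp only [uok, Bool.and_eq_true, blt_iff] at hp
  rw [uel, mat_mulN]
  exact U.mul_mem (partA_mem hp.1) (partB_mem hp.2)

theorem exists_index {u : Mat24} (hu : u ∈ U) :
    ∃ i < 128, ∃ l < 32, u = mat (partA.getD i 0) * mat (partB.getD l 0) := by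
  induction hu using Submonoid.closure_induction_left with
  | one =>
    have := basic
    simp only [Bool.and_eq_true] at this
    refine ⟨0, by norm_num, 0, by norm_num, ?_⟩
    rw [mat_of_beq this.1.1.2, mat_of_beq this.1.2, mat_one, one_mul]
  | mul_left x hx y _ ih =>
    obtain ⟨k, hk, rfl⟩ := hx
    obtain ⟨i, hi, l, hl, rfl⟩ := ih
    have h := all_range (all_range lmul_ok hk) hi
    simp only [Bool.and_eq_true, uok, blt_iff] at h
    obtain ⟨⟨h1, h2⟩, h3⟩ := h
    have h4 := all_range (all_range bxor_ok h2) hl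
    simp only [Bool.and_eq_true, blt_iff] at h4
    refine ⟨_, h1, _, h4.1, ?_⟩
    rw [← mat_of_beq h4.2, mat_mulN, ← mul_assoc, ← mat_mulN, mat_of_beq h3, uel, mat_mulN, mul_assoc]

theorem Z_mul_U {u : Mat24} (hu : u ∈ U) : ∃ u' ∈ U, Z * u = u' * Z := by
  obtain ⟨i, hi, l, hl, rfl⟩ := exists_index hu
  have hA := all_range torusA_ok hi
  have hB := all_range torusB_ok hl
  simp only [Bool.and_eq_true, blt_iff] at hA hB
  have eA := mat_of_beq hA.2
  have eB := mat_of_beq hB.2
  rw [mat_mulN, mat_mulN] at eA eB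
  refine ⟨_, U.mul_mem (partA_mem hA.1) (partB_mem hB.1), ?_⟩
  unfold Z
  rw [← mul_assoc, eA, mul_assoc, eB, mul_assoc]

theorem Zpow_mul_U (n : ℕ) : ∀ {u : Mat24}, u ∈ U → ∃ u' ∈ U, Z ^ n * u = u' * Z ^ n := by
  induction n with
  | zero => exact fun {u} hu => ⟨u, hu, by simp⟩
  | succ n ih =>
    intro u hu
    obtain ⟨v, hv, e⟩ := Z_mul_U hu
    obtain ⟨w, hw, e'⟩ := ih hv
    refine ⟨w, hw, ?_⟩
    rw [pow_succ, mul_assoc, e, ← mul_assoc, e', mul_assoc]

theorem U_mul_Zpow (n : ℕ) {u : Mat24} (hu : u ∈ U) : ∃ u' ∈ U, u * Z ^ n = Z ^ n * u' := by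
  obtain ⟨v, hv, e⟩ := Zpow_mul_U (6 * n) hu
  have h1 : ∀ m : ℕ, Z ^ (m * 7) = 1 := fun m => by rw [mul_comm, pow_mul, Z_pow_seven, one_pow]
  refine ⟨v, hv, ?_⟩
  calc u * Z ^ n = Z ^ (n + 6 * n) * (u * Z ^ n) := by rw [show n + 6 * n = n * 7 by ring, h1, one_mul]
    _ = Z ^ n * (Z ^ (6 * n) * u * Z ^ n) := by rw [pow_add]; simp only [mul_assoc]
    _ = Z ^ n * v := by rw [e, mul_assoc v, ← pow_add, show 6 * n + n = n * 7 by ring, h1, mul_one]

theorem X_mem {s c : ℕ} (hs : s < 2) (hc : c < (xs.getD s []).length) : X s c ∈ U := by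
  have h := all_range (all_range xs_ok hs) hc
  simp only [Bool.and_eq_true] at h
  rw [X, mat_of_beq h.2]
  exact uel_mem h.1

theorem N_sq {s : ℕ} (hs : s < 2) : N s * N s = 1 := by
  have h := all_range ns_ok hs
  simp only [Bool.and_eq_true] at h
  unfold N
  rw [← mat_mulN, mat_of_beq h.1.2, mat_one]

theorem N_mul_Zpow {s : ℕ} (hs : s < 2) (n : ℕ) : ∃ m, N s * Z ^ n = Z ^ m * N s := by
  have h := all_range ns_ok hs
  simp only [Bool.and_eq_true, blt_iff] at h
  have e := mat_of_beq h.2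
  rw [mat_mulN, mat_mulN, zp_eq _ h.1.1] at e
  refine ⟨zn.getD s 0 * n, ?_⟩
  induction n with
  | zero => simp
  | succ n ih =>
    rw [pow_succ, ← mul_assoc, ih, mul_assoc, show N s * Z = _ from e, ← mul_assoc, ← pow_add, mul_add, mul_one]
    rfl

theorem N_mul_U {s : ℕ} (hs : s < 2) {u : Mat24} (hu : u ∈ U) :
    ∃ u' ∈ U, ∃ c < (xs.getD s []).length, N s * u = u' * (N s * X s c) := by
  obtain ⟨i, hi, l, hl, rfl⟩ := exists_index hu
  have hA := all_range (all_range moveA_ok hs) hi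
  simp only [Bool.and_eq_true, blt_iff] at hA
  obtain ⟨⟨hp, hc⟩, eA⟩ := hA
  have eA := mat_of_beq eA
  rw [mat_mulN, mat_mulN, mat_mulN] at eA
  set c := ((moveA.getD s []).getD i ((0, 0), 0)).2
  have key : ∀ m ∈ Submonoid.closure {m | ∃ b < 5, m = mat (partB.getD (2 ^ b) 0)},
      ∃ v ∈ U, N s * X s c * m = v * (N s * X s c) := by
    intro m hm
    induction hm using Submonoid.closure_induction with
    | mem x hx =>
      obtain ⟨b, hb, rfl⟩ := hx
      have hB := all_range (all_range (all_range moveB_ok hs) hc) hb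
      simp only [Bool.and_eq_true] at hB
      have eB := mat_of_beq hB.2
      rw [mat_mulN, mat_mulN, mat_mulN, mat_mulN] at eB
      exact ⟨_, uel_mem hB.1, eB⟩
    | one => exact ⟨1, U.one_mem, by simp⟩
    | mul x y _ _ hx hy =>
      obtain ⟨v, hv, ev⟩ := hx
      obtain ⟨w, hw, ew⟩ := hy
      exact ⟨v * w, U.mul_mem hv hw, by rw [← mul_assoc, ev, mul_assoc, ew, mul_assoc]⟩
  obtain ⟨v, hv, ev⟩ := key _ (partB_mem_closure hl)
  refine ⟨_, U.mul_mem (uel_mem hp) hv, c, hc, ?_⟩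
  unfold N X at ev ⊢
  rw [← mul_assoc, eA, mul_assoc, ev, mul_assoc]

/-- The union of the cells. -/
def Cov (m : Mat24) : Prop :=
  ∃ u ∈ U, ∃ j : ℕ, ∃ w < 12, ∃ u' ∈ U, m = u * Z ^ j * Nw w * u'

theorem Cov.one : Cov 1 := by
  have := basic
  simp only [Bool.and_eq_true] at this
  refine ⟨1, U.one_mem, 0, 0, by norm_num, 1, U.one_mem, ?_⟩
  rw [Nw, mat_of_beq this.1.1.1.2, mat_one, pow_zero]; simp

theorem Cov.mul_U {v m : Mat24} (hv : v ∈ U) (h : Cov m) : Cov (v * m) := by
  obtain ⟨u, hu, j, w, hw, u', hu', rfl⟩ := h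
  exact ⟨v * u, U.mul_mem hv hu, j, w, hw, u', hu', by simp only [mul_assoc]⟩

theorem Cov.mul_N {s : ℕ} (hs : s < 2) {m : Mat24} (h : Cov m) : Cov (N s * m) := by
  obtain ⟨u, hu, j, w, hw, u', hu', rfl⟩ := h
  obtain ⟨u1, hu1, e1⟩ := U_mul_Zpow j hu
  obtain ⟨k, e2⟩ := N_mul_Zpow hs j
  obtain ⟨u2, hu2, c, hc, e3⟩ := N_mul_U hs hu1
  have hcov := all_range (all_range (all_range cells_cover hs) hw) hc
  simp only [List.any_eq_true, Bool.and_eq_true] at hcov
  obtain ⟨⟨s', w', c', i0, zi, w2, p⟩, he, ⟨hs', hw'⟩, hc'⟩ := hcov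
  obtain rfl : s' = s := Nat.eq_of_beq_eq_true hs'
  obtain rfl : w' = w := Nat.eq_of_beq_eq_true hw'
  obtain rfl : c' = c := Nat.eq_of_beq_eq_true hc'
  have h5 := List.all_eq_true.mp cells_ok _ he
  simp only [Bool.and_eq_true, blt_iff] at h5
  obtain ⟨⟨⟨⟨h0, hzi⟩, hw2⟩, hp⟩, e5⟩ := h5
  have e5 := mat_of_beq e5
  rw [mat_mulN, mat_mulN, mat_mulN, mat_mulN, mat_mulN, zp_eq _ hzi] at e5
  obtain ⟨u4, hu4, e4⟩ := Zpow_mul_U k (U.mul_mem hu2 (partA_mem h0))
  refine ⟨u4, hu4, k + zi, w2, hw2, _, U.mul_mem (uel_mem hp) hu', ?_⟩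
  have : N s' * X s' c' * Nw w' =
      mat (partA.getD i0 0) * Z ^ zi * Nw w2 * mat (uel p) := e5
  calc N s' * (u * Z ^ j * Nw w' * u')
      = N s' * Z ^ j * u1 * Nw w' * u' := by rw [e1]; simp only [mul_assoc]
    _ = Z ^ k * (N s' * u1) * Nw w' * u' := by rw [e2]; simp only [mul_assoc]
    _ = Z ^ k * u2 * (N s' * X s' c' * Nw w') * u' := by rw [e3]; simp only [mul_assoc]
    _ = Z ^ k * (u2 * mat (partA.getD i0 0)) * Z ^ zi * Nw w2 * mat (uel p) * u' := by
        rw [this]; simp only [mul_assoc]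
    _ = _ := by rw [e4, pow_add]; simp only [mul_assoc]

/-- The group generated by the root matrices. -/
noncomputable def rootGroup : Subgroup Mat24ˣ := Subgroup.closure {g | ∃ n ∈ gens, (g : Mat24) = mat n}

theorem gens_sq {n : ℕ} (hn : n ∈ gens) : mat n * mat n = 1 := by
  have h := basic
  simp only [Bool.and_eq_true] at h
  rw [← mat_mulN, mat_of_beq (List.all_eq_true.mp h.2 n hn), mat_one]

theorem Cov.mul_gen {n : ℕ} (hn : n ∈ gens) {m : Mat24} (h : Cov m) : Cov (mat n * m) := by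
  have hg := List.all_eq_true.mp gens_ok n hn
  simp only [Bool.or_eq_true, List.any_eq_true, Bool.and_eq_true, List.mem_range, blt_iff] at hg
  rcases hg with ⟨k, hk, e⟩ | ⟨⟨a, s, c⟩, -, ⟨hs, hc⟩, e⟩
  · exact h.mul_U (Submonoid.subset_closure ⟨k, hk, (mat_of_beq e).symm⟩)
  · rw [mat_of_beq e, mat_mulN, mat_mulN]
    show Cov (N s * X s c * N s * m)
    rw [mul_assoc, mul_assoc]
    exact ((h.mul_N hs).mul_U (X_mem hs hc)).mul_N hs

theorem cov_of_mem {g : Mat24ˣ} (hg : g ∈ rootGroup) : Cov (g : Mat24) := by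
  suffices ∀ m, Cov m → Cov ((g : Mat24) * m) by simpa using this 1 Cov.one
  induction hg using Subgroup.closure_induction'' with
  | mem x hx =>
    obtain ⟨n, hn, e⟩ := hx
    exact fun m hm => by rw [e]; exact hm.mul_gen hn
  | inv_mem x hx =>
    obtain ⟨n, hn, e⟩ := hx
    have : x⁻¹ = x := inv_eq_of_mul_eq_one_right (Units.ext (by rw [Units.val_mul, e, gens_sq hn]; rfl))
    exact fun m hm => by rw [this, e]; exact hm.mul_gen hn
  | one => exact fun m hm => by simpa using hm
  | mul a b _ _ ha hb => exact fun m hm => by rw [Units.val_mul, mul_assoc]; exact ha _ (hb m hm)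

theorem isUnit_U {u : Mat24} (hu : u ∈ U) : IsUnit u := by
  refine Submonoid.closure_le (S := IsUnit.submonoid Mat24).mpr ?_ hu
  rintro _ ⟨k, hk, rfl⟩
  have h := all_range posGens_ok hk
  simp only [List.any_eq_true] at h
  obtain ⟨g, hg, e⟩ := h
  rw [← mat_of_beq e]
  exact IsUnit.of_mul_eq_one _ (gens_sq hg)

section Sound

open Polynomial in
theorem poly_eq {p q : (ZMod 2)[X]} (h : p = q) (g : Mat24) : aeval g p = aeval g q := by rw [h]

theorem ord_of_chk {g c : ℕ} (h : chkOrd g c = true) : Ord (mat g) := by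
  unfold chkOrd at h
  simp only [Bool.cond_eq_ite] at h
  split_ifs at h with h0 h1 h2 h3 h4 h5 h6 h7 h8 <;> have e := mat_of_beq h <;>
    simp only [mat_mulN, mat_xor, mat_one, mat_zero] at e
  · exact Or.inl ⟨4, by simp, by rw [← e]; simp only [pow_succ, pow_zero, one_mul, mul_assoc]⟩
  · exact Or.inl ⟨6, by simp, by rw [← e]; simp only [pow_succ, pow_zero, one_mul, mul_assoc]⟩
  · exact Or.inl ⟨14, by simp, by rw [← e]; simp only [pow_succ, pow_zero, one_mul, mul_assoc]⟩
  all_goals generalize hx : mat g = x at e ⊢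
  · refine Or.inr ⟨8, by simp, ?_⟩
    have := poly_eq (show ∑ i ∈ Finset.range 8, (Polynomial.X : Polynomial (ZMod 2)) ^ i =
      (1 + .X) * (1 + .X * .X) * (1 + .X * .X * (.X * .X)) by
        simp only [Finset.sum_range_succ, Finset.sum_range_zero]; ring) x
    simp only [map_sum, map_pow, map_mul, map_add, map_one, Polynomial.aeval_X] at this
    rw [this, e]
  · refine Or.inr ⟨12, by simp, ?_⟩
    have := poly_eq (show ∑ i ∈ Finset.range 12, (Polynomial.X : Polynomial (ZMod 2)) ^ i =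
      (1 + (.X + .X * .X)) * (1 + .X * (.X * .X)) * (1 + .X * (.X * .X) * (.X * (.X * .X))) by
        simp only [Finset.sum_range_succ, Finset.sum_range_zero]; ring) x
    simp only [map_sum, map_pow, map_mul, map_add, map_one, Polynomial.aeval_X] at this
    rw [this, e]
  · refine Or.inr ⟨13, by simp, ?_⟩
    have := poly_eq (show ∑ i ∈ Finset.range 13, (Polynomial.X : Polynomial (ZMod 2)) ^ i =
      1 + .X * ((1 + (.X + .X * .X)) * (1 + .X * (.X * .X)) * (1 + .X * (.X * .X) * (.X * (.X * .X)))) by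
        simp only [Finset.sum_range_succ, Finset.sum_range_zero]; ring) x
    simp only [map_sum, map_pow, map_mul, map_add, map_one, Polynomial.aeval_X] at this
    rw [this, e]
  · refine Or.inr ⟨18, by simp, ?_⟩
    have := poly_eq (show ∑ i ∈ Finset.range 18, (Polynomial.X : Polynomial (ZMod 2)) ^ i =
      (1 + (.X + .X * .X)) * (1 + (.X * (.X * .X) + .X * (.X * .X) * (.X * (.X * .X)))) *
        (1 + .X * (.X * .X) * (.X * (.X * .X) * (.X * (.X * .X)))) by
        simp only [Finset.sum_range_succ, Finset.sum_range_zero]; ring) x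
    simp only [map_sum, map_pow, map_mul, map_add, map_one, Polynomial.aeval_X] at this
    rw [this, e]
  · refine Or.inr ⟨21, by simp, ?_⟩
    have := poly_eq (show ∑ i ∈ Finset.range 21, (Polynomial.X : Polynomial (ZMod 2)) ^ i =
      (1 + .X * ((1 + (.X + .X * .X)) * (1 + .X * (.X * .X)))) *
        (1 + (.X * (.X * (.X * .X) * (.X * (.X * .X))) +
          .X * (.X * (.X * .X) * (.X * (.X * .X))) * (.X * (.X * (.X * .X) * (.X * (.X * .X)))))) by
        simp only [Finset.sum_range_succ, Finset.sum_range_zero]; ring) x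
    simp only [map_sum, map_pow, map_mul, map_add, map_one, Polynomial.aeval_X] at this
    rw [this, e]
  · refine Or.inr ⟨28, by simp, ?_⟩
    have := poly_eq (show ∑ i ∈ Finset.range 28, (Polynomial.X : Polynomial (ZMod 2)) ^ i =
      (1 + .X * ((1 + (.X + .X * .X)) * (1 + .X * (.X * .X)))) * (1 + .X * (.X * (.X * .X) * (.X * (.X * .X)))) *
        (1 + .X * (.X * (.X * .X) * (.X * (.X * .X))) * (.X * (.X * (.X * .X) * (.X * (.X * .X))))) by
        simp only [Finset.sum_range_succ, Finset.sum_range_zero]; ring) x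
    simp only [map_sum, map_pow, map_mul, map_add, map_one, Polynomial.aeval_X] at this
    rw [this, e]

end Sound

theorem chk_cells {w : ℕ} (hw : w < 12) : ∃ codes, chkCell w codes = true := by
  interval_cases w
  exacts [⟨_, chk_cell0⟩, ⟨_, chk_cell1⟩, ⟨_, chk_cell2⟩, ⟨_, chk_cell3⟩, ⟨_, chk_cell4⟩, ⟨_, chk_cell5⟩,
    ⟨_, chk_cell6⟩, ⟨_, chk_cell7⟩, ⟨_, chk_cell8⟩, ⟨_, chk_cell9⟩, ⟨_, chk_cell10⟩, ⟨_, chk_cell11⟩]

theorem ord_case {w : ℕ} (hw : w < 12) {j : ℕ} (hj : j < 7) (hk : kw.getD w 0 = 1 ∨ j = 0) {i l : ℕ}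
    (hi : i < 128) (hl : l < 32) (hrep : kw.getD w 0 = 1 → (repMask.getD i 0).testBit l = true) :
    Ord (mat (partA.getD i 0) * mat (partB.getD l 0) * Z ^ j * Nw w) := by
  obtain ⟨codes, hc⟩ := chk_cells hw
  have hj' : j < bif Nat.beq (kw.getD w 0) 1 then 7 else 1 := by
    rcases hk with h | h
    · rw [h]; exact hj
    · subst h
      cases Nat.beq (kw.getD w 0) 1 <;> norm_num
  have h := all_range (all_range (all_range hc hj') hi) hl
  simp only [Bool.or_eq_true, Bool.and_eq_true, Bool.not_eq_true', beq_true_iff] at h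
  rcases h with ⟨h1, h2⟩ | h
  · rw [hrep h1] at h2; exact absurd h2 (by decide)
  · have e := ord_of_chk h
    rw [mat_mulN, mat_mulN, mat_mulN, zp_eq j hj, ← mul_assoc] at e
    exact e

theorem isUnit_Z : IsUnit Z := IsUnit.of_mul_eq_one (Z ^ 6) (by rw [← pow_succ']; exact Z_pow_seven)

theorem ord_conj_Z (e : ℕ) {x y : Mat24} (h : Z ^ e * x = y * Z ^ e) (hx : Ord y) : Ord x := by
  obtain ⟨c, hc⟩ := (isUnit_Z.pow e)
  have := hx.conj c⁻¹
  rw [inv_inv] at this
  convert this using 1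
  rw [mul_assoc, hc, ← h, ← hc, Units.inv_mul_cancel_left]

theorem find_rep : ∀ (n : ℕ) {i l : ℕ}, findRep n i l = true → i < 128 → l < 32 →
    ∃ e i' l', i' < 128 ∧ l' < 32 ∧ (repMask.getD i' 0).testBit l' = true ∧
      Z ^ e * (mat (partA.getD i 0) * mat (partB.getD l 0)) =
        (mat (partA.getD i' 0) * mat (partB.getD l' 0)) * Z ^ e
  | 0, _, _, h, _, _ => absurd h Bool.false_ne_true
  | n + 1, i, l, h, hi, hl => by
    rw [findRep, Bool.or_eq_true] at h
    rcases h with h | h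
    · exact ⟨0, i, l, hi, hl, h, by simp⟩
    · have hA := all_range torusA_ok hi
      have hB := all_range torusB_ok hl
      simp only [Bool.and_eq_true, blt_iff] at hA hB
      have eA := mat_of_beq hA.2
      have eB := mat_of_beq hB.2
      rw [mat_mulN, mat_mulN] at eA eB
      obtain ⟨e, i', l', h1, h2, h3, h4⟩ := find_rep n h hA.1 hB.1
      refine ⟨e + 1, i', l', h1, h2, h3, ?_⟩
      calc Z ^ (e + 1) * (mat (partA.getD i 0) * mat (partB.getD l 0))
          = Z ^ e * (mat (partA.getD (zA.getD i 0) 0) * mat (partB.getD (zB.getD l 0) 0)) * Z := by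
            rw [pow_succ, mul_assoc (Z ^ e) Z, ← mul_assoc Z]
            show Z ^ e * (mat (zp.getD 1 0) * _ * _) = _
            rw [eA, mul_assoc _ (mat (zp.getD 1 0)), eB]
            simp only [mul_assoc]; rfl
        _ = _ := by rw [h4, mul_assoc, ← pow_succ]

theorem ord_cell {u : Mat24} (hu : u ∈ U) (j : ℕ) {w : ℕ} (hw : w < 12) : Ord (u * Z ^ j * Nw w) := by
  rw [Z_pow_mod j]
  have hjlt : j % 7 < 7 := Nat.mod_lt _ (by norm_num)
  generalize j % 7 = j at hjlt ⊢
  have hk := all_range nw_ok hw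
  simp only [Bool.and_eq_true, Bool.or_eq_true, beq_true_iff] at hk
  obtain ⟨ek, hk⟩ := hk
  have ek' : Nw w * Z = mat (zp.getD (kw.getD w 0) 0) * Nw w := by
    unfold Nw Z; rw [← mat_mulN, ek, mat_mulN]
  rw [zp_eq _ (by omega)] at ek'
  have hN : ∀ e, Nw w * Z ^ e = Z ^ (kw.getD w 0 * e) * Nw w := by
    intro e
    induction e with
    | zero => simp
    | succ e ih =>
      rw [pow_succ, ← mul_assoc, ih, mul_assoc, ek', ← mul_assoc, ← pow_add, mul_add, mul_one]
  rcases hk with hk | hk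
  · obtain ⟨i, hi, l, hl, rfl⟩ := exists_index hu
    obtain ⟨e, i', l', hi', hl', hm, he⟩ := find_rep 7 (all_range (all_range rep_cover hi) hl) hi hl
    refine ord_conj_Z e ?_ (ord_case hw hjlt (Or.inl hk) hi' hl' fun _ => hm)
    rw [← mul_assoc, ← mul_assoc, he, mul_assoc _ (Z ^ e), ← pow_add, add_comm e j, mul_assoc _ (Nw w),
      hN e, hk, one_mul, ← mul_assoc, mul_assoc _ (Z ^ j) (Z ^ e), ← pow_add]
  · obtain ⟨u', hu', e1⟩ := Zpow_mul_U (3 * j) hu
    obtain ⟨i, hi, l, hl, rfl⟩ := exists_index hu'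
    refine ord_conj_Z (3 * j) ?_
      (ord_case hw (by norm_num) (Or.inr rfl) hi hl fun h => absurd (hk.symm.trans h) (by norm_num))
    have : Z ^ (3 * j + j) = Z ^ (kw.getD w 0 * (3 * j)) := by
      rw [hk, Z_pow_mod (6 * (3 * j)), Z_pow_mod (3 * j + j)]
      congr 1
      omega
    rw [pow_zero, mul_one, ← mul_assoc, ← mul_assoc, e1, mul_assoc _ (Z ^ (3 * j)), ← pow_add, this,
      mul_assoc _ (Nw w), hN]
    simp only [mul_assoc]

theorem ord_of_mem {g : Mat24ˣ} (hg : g ∈ rootGroup) : Ord (g : Mat24) := by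
  obtain ⟨u, hu, j, w, hw, u', hu', e⟩ := cov_of_mem hg
  obtain ⟨c, rfl⟩ := isUnit_U hu'
  have := (ord_cell (U.mul_mem hu' hu) j hw).conj c⁻¹
  rw [inv_inv] at this
  convert this using 1
  rw [e]
  simp only [mul_assoc, Units.inv_mul_cancel_left]

end CfsgLib.Recognition.TrialitySpectrum
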