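import Cfsg.Agent.Lib.Recognition.TrialitySpectrum.Rep

/-!
The triality group over the field with two elements as a group of matrices over the prime field, and its
element orders.
-/

set_option autoImplicit false
set_option maxRecDepth 20000

namespace CfsgLib.Recognition.TrialitySpectrum

open CfsgLib.Chevalley CfsgLib.Chevalley.Tbl CfsgLib.Chevalley.Natural
open scoped Matrix

local notation "T4" => Data.D4.tbl

/-- An edge of the coordinates: a root matrix with a one at the position. -/
def edgeOk (a b : ℕ) : Bool :=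
  (List.range 24).any fun r => decide (entry (ZMod 2) 1 (natD4.xP r 1 1 0) a b = 1) && !(Nat.beq a b)

theorem edges_ok : ∀ a b : Fin 8, a ≠ b → a.val + 4 ≠ b.val → b.val + 4 ≠ a.val → edgeOk a.val b.val = true := by
  decide +kernel

theorem beq_ne {a b : ℕ} (h : (!(Nat.beq a b)) = true) : a ≠ b := by
  intro e; subst e; simp at h

section Ker

variable {K : Type*} [Field K] [CharP K 2]

/-- The natural representation of the presented group. -/
noncomputable def rep8 : (T4).datum.SteinbergGroup K →* GL (Fin 4 ⊕ Fin 4) K :=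
  repHom eD4 natD4_ok natD4_nat.st.valid

theorem rep8_sX {r : ℕ} (hr : r < (T4).n) (t : K) :
    (rep8 ((T4).sX K r t) : Matrix (Fin 4 ⊕ Fin 4) (Fin 4 ⊕ Fin 4) K) = xM (D := natD4) eD4 r t := by
  rw [rep8, repHom_sX eD4 natD4_ok natD4_nat.st.valid hr, xN_val eD4 natD4_ok hr]

theorem rep8_central {z : (T4).datum.SteinbergGroup K} (hz : z ∈ Subgroup.center _) : rep8 z = 1 := by
  classical
  have hd : z ∈ (T4).sDiag K := by
    refine ker_le_sDiag natD4_nat.st ?_
    rw [← stProj_ker natD4_nat.st, MonoidHom.mem_ker] at hz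
    exact MonoidHom.mem_ker.mpr (congrArg Subtype.val hz)
  let C : Subgroup (GL (Fin 4 ⊕ Fin 4) K) :=
    { carrier := {g | ∀ d : Fin 4 ⊕ Fin 4 → K, Commute (g : Matrix _ _ K) (Matrix.diagonal d)}
      one_mem' := fun d => Commute.one_left _
      mul_mem' := fun ha hb d => (ha d).mul_left (hb d)
      inv_mem' := fun {g} hg d => (hg d).units_inv_left }
  have hC : (T4).sDiag K ≤ C.comap rep8 := by
    refine (Subgroup.closure_le _).mpr ?_
    rintro _ ⟨i, hi, t, ht, rfl⟩ d
    rw [rep8, repHom_sH eD4 natD4_ok natD4_nat.st.valid (simple_lt natD4_nat.st.valid hi) ht]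
    exact Matrix.commute_diagonal _ _
  set Z : Matrix (Fin 4 ⊕ Fin 4) (Fin 4 ⊕ Fin 4) K := Units.val (rep8 z) with hZ
  have hoff : ∀ a b, a ≠ b → Z a b = 0 := fun a b hab => by
    have := congrFun (congrFun (hC hd (Pi.single a 1)).eq a) b
    rw [Matrix.mul_diagonal, Matrix.diagonal_mul, Pi.single_eq_same, Pi.single_eq_of_ne (Ne.symm hab),
      mul_zero, one_mul] at this
    exact this.symm
  have hdiag : Z = Matrix.diagonal fun a => Z a a := by
    ext a b
    by_cases h : a = b
    · subst h; simp
    · rw [Matrix.diagonal_apply_ne _ h, hoff a b h]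
  have hedge : ∀ a b : Fin 8, edgeOk a.val b.val = true → Z (eD4 a) (eD4 a) = Z (eD4 b) (eD4 b) := by
    intro a b h
    simp only [edgeOk, List.any_eq_true, List.mem_range, Bool.and_eq_true, decide_eq_true_eq] at h
    obtain ⟨r, hr, h1, -⟩ := h
    have hr' : r < (T4).n := hr
    have hcomm := congrArg (fun g : GL (Fin 4 ⊕ Fin 4) K => Units.val g)
      (congrArg rep8 (Subgroup.mem_center_iff.mp hz ((T4).sX K r 1)))
    simp only [map_mul, Units.val_mul, rep8_sX hr'] at hcomm
    rw [← hZ, hdiag] at hcomm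
    have := congrFun (congrFun hcomm (eD4 a)) (eD4 b)
    rw [Matrix.mul_diagonal, Matrix.diagonal_mul] at this
    have hx : xM (D := natD4) eD4 r (1 : K) (eD4 a) (eD4 b) = 1 := by
      refine (ev_entry (1 : K) _ a b).trans ?_
      have hmap := congrArg (ZMod.castHom (dvd_refl 2) K) h1
      rw [map_one] at hmap
      refine Eq.trans ?_ hmap
      rw [entry, entry, map_list_sum, List.map_map]
      refine congrArg List.sum (List.map_congr_left fun p _ => ?_)
      simp only [Function.comp_apply, apply_ite (ZMod.castHom (dvd_refl 2) K), map_mul, map_intCast, map_pow,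
        map_zero, map_one]
    rw [hx, one_mul, mul_one] at this
    exact this.symm
  have key : ∀ a b : Fin 8, Z (eD4 a) (eD4 a) = Z (eD4 b) (eD4 b) := by
    have h0 : ∀ a : Fin 8, Z (eD4 a) (eD4 a) = Z (eD4 (0 : Fin 8)) (eD4 (0 : Fin 8)) := by
      intro a
      by_cases h4 : a = 4
      · subst h4
        exact (hedge 4 1 (edges_ok 4 1 (by decide) (by decide) (by decide))).trans
          (hedge 1 0 (edges_ok 1 0 (by decide) (by decide) (by decide)))
      · by_cases h : a = 0
        · rw [h]
        · refine hedge a 0 (edges_ok a 0 h ?_ ?_)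
          · show a.val + 4 ≠ 0
            omega
          · show 0 + 4 ≠ a.val
            intro e
            exact h4 (Fin.ext e.symm)
    exact fun a b => (h0 a).trans (h0 b).symm
  set c := Z (eD4 (0 : Fin 8)) (eD4 (0 : Fin 8))
  have hscal : ∀ a, Z a a = c := fun a => by
    obtain ⟨a, rfl⟩ := eD4.surjective a
    exact key a 0
  have hfix : ∀ o : Fin 4 ⊕ Fin 4, Sum.swap o ≠ o := fun o => by rcases o with i | i <;> simp
  have hpol0 : ∀ o : Fin 4 ⊕ Fin 4, Sum.swap o = o →
      ∀ v, QuadraticMap.polar (CfsgLib.Orth.plusForm K 4) (Pi.single o 1) v = 2 * v o :=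
    fun o ho => absurd ho (hfix o)
  let g := natHom natD4_nat eD4 (CfsgLib.Orth.plusForm_apply (F := K) 4) frame_plus hpol0 hbar_D4 z
  have hrel := (diag_rel (CfsgLib.Orth.plusForm_apply (F := K) 4) frame_plus hpol0 (x := g) (f := fun _ => c)
    (fun v a => by
      show (Z *ᵥ v) a = c * v a
      rw [hdiag, Matrix.mulVec_diagonal, hscal])).1 (Sum.inl 0) (hfix _)
  have hc : c = 1 := by
    have h2 : (2 : K) = 0 := CharTwo.two_eq_zero
    have : (c - 1) * (c - 1) = 0 := by linear_combination hrel + (1 - c) * h2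
    exact sub_eq_zero.mp (mul_self_eq_zero.mp this)
  refine Units.ext ?_
  rw [← hZ, hdiag, Units.val_one, ← Matrix.diagonal_one]
  exact congrArg Matrix.diagonal (funext fun a => (hscal a).trans hc)

theorem exists_hom : ∃ φ : ↥((T4).datum.group K) →* GL (Fin 4 ⊕ Fin 4) K, ∀ r < (T4).n, ∀ (t : K)
    (g : ↥((T4).datum.group K)), (g : GL (T4).I K) = (T4).xU K r t →
      (φ g : Matrix (Fin 4 ⊕ Fin 4) (Fin 4 ⊕ Fin 4) K) = xM (D := natD4) eD4 r t := by
  have hs := stProj_surjective (F := K) natD4_nat.st
  have hker : (stProj (F := K) natD4_nat.st).ker ≤ rep8.ker := fun z hz => by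
    rw [stProj_ker] at hz
    exact MonoidHom.mem_ker.mpr (rep8_central hz)
  refine ⟨(stProj (F := K) natD4_nat.st).liftOfSurjective hs ⟨rep8, hker⟩, fun r hr t g hg => ?_⟩
  have e : g = stProj natD4_nat.st ((T4).sX K r t) := Subtype.ext (hg.trans (hom_sX natD4_nat.st hr t).symm)
  rw [e, MonoidHom.liftOfRightInverse_comp_apply]
  exact rep8_sX hr t

end Ker

end CfsgLib.Recognition.TrialitySpectrum
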