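import Cfsg.Agent.Lib.Recognition.TrialitySpectrum.Model

/-!
Extensions of powers of the natural module by the triality group have the same element orders.
-/

set_option autoImplicit false
set_option maxRecDepth 20000

namespace CfsgLib.Recognition.TrialitySpectrum

open Finset

/-- The element orders. -/
def spec : Finset ℕ :=
  Nat.divisors 8 ∪ Nat.divisors 12 ∪ Nat.divisors 13 ∪ Nat.divisors 18 ∪ Nat.divisors 21 ∪ Nat.divisors 28

theorem spec_of_dvd {m k : ℕ} (hk : k ∈ [8, 12, 13, 18, 21, 28]) (h : m ∣ k) : m ∈ spec := by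
  simp only [List.mem_cons, List.not_mem_nil, or_false] at hk
  simp only [spec, Finset.mem_union, Nat.mem_divisors]
  rcases hk with rfl | rfl | rfl | rfl | rfl | rfl <;> simp [h]

theorem exists_witness {n : ℕ} (hn : n ∈ [8, 12, 13, 18, 21, 28]) :
    ∃ g : ↥rootGroup, orderOf g = n := by
  have h := List.all_eq_true.mp witnesses_ok n hn
  simp only [List.any_eq_true, List.all_eq_true, Bool.and_eq_true, Bool.or_eq_true, List.mem_range,
    beq_true_iff] at h
  obtain ⟨e, -, ⟨⟨-, hl⟩, h1⟩, hne⟩ := h
  obtain ⟨g, hg, eg⟩ := exists_genProd fun i hi => blt_iff.mp (hl i hi)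
  refine ⟨⟨g, hg⟩, ?_⟩
  rw [← Subgroup.orderOf_coe, ← orderOf_units, eg, orderOf_eq_iff (by
    simp only [List.mem_cons, List.not_mem_nil, or_false] at hn
    omega)]
  refine ⟨by rw [← mat_powN, h1, mat_one], fun m hm h0 => ?_⟩
  rw [← mat_powN]
  exact mat_ne_one ((hne m hm).resolve_left h0.ne')

theorem range_orderOf_rootGroup : Set.range (orderOf : ↥rootGroup → ℕ) = ↑spec := by
  ext m
  constructor
  · rintro ⟨g, rfl⟩
    rw [← Subgroup.orderOf_coe, ← orderOf_units]
    rcases ord_of_mem g.2 with ⟨k, hk, e⟩ | ⟨k, hk, e⟩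
    · have h := orderOf_dvd_of_pow_eq_one e
      simp only [List.mem_cons, List.not_mem_nil, or_false] at hk
      rcases hk with rfl | rfl | rfl
      · exact spec_of_dvd (k := 8) (by simp) (h.trans (by norm_num))
      · exact spec_of_dvd (k := 12) (by simp) (h.trans (by norm_num))
      · exact spec_of_dvd (k := 28) (by simp) (h.trans (by norm_num))
    · refine spec_of_dvd hk (orderOf_dvd_of_pow_eq_one ?_)
      rw [← sub_eq_zero, ← geom_sum_mul, e, zero_mul]
  · intro hm
    have key : ∀ n ∈ [8, 12, 13, 18, 21, 28], m ∣ n → m ∈ Set.range (orderOf : ↥rootGroup → ℕ) := by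
      intro n hn hd
      obtain ⟨g, hg⟩ := exists_witness hn
      refine ⟨g ^ (n / m), ?_⟩
      have hn0 : n ≠ 0 := by simp only [List.mem_cons, List.not_mem_nil, or_false] at hn; omega
      rw [orderOf_pow' _ (Nat.div_ne_zero_iff.mpr ⟨fun e => hn0 (Nat.eq_zero_of_zero_dvd (e ▸ hd)),
        Nat.le_of_dvd (Nat.pos_of_ne_zero hn0) hd⟩), hg,
        Nat.gcd_eq_right (Nat.div_dvd_of_dvd hd), Nat.div_div_self hd hn0]
    simp only [spec, Finset.coe_union, Set.mem_union, Finset.mem_coe, Nat.mem_divisors] at hm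
    rcases hm with ((((⟨h, -⟩ | ⟨h, -⟩) | ⟨h, -⟩) | ⟨h, -⟩) | ⟨h, -⟩) | ⟨h, -⟩ <;>
      exact key _ (by simp) h

/-- Tuples of vectors. -/
abbrev Tup (k : ℕ) : Type := Fin k → Fin 24 → ZMod 2

open scoped Matrix

/-- The action of a group of matrices on tuples. -/
noncomputable def actGen {R ι : Type} [CommRing R] [Fintype ι] [DecidableEq ι] (G : Subgroup (Matrix ι ι R)ˣ)
    (k : ℕ) : ↥G →* MulAut (Multiplicative (Fin k → ι → R)) :=
  MonoidHom.mk'
    (fun g =>
      { toFun := fun v => Multiplicative.ofAdd fun j => Units.val (g : (Matrix ι ι R)ˣ) *ᵥ v.toAdd j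
        invFun := fun v => Multiplicative.ofAdd fun j => Units.val ((g⁻¹ : ↥G) : (Matrix ι ι R)ˣ) *ᵥ v.toAdd j
        left_inv := fun v => by
          refine Multiplicative.toAdd.injective (funext fun j => ?_)
          show _ *ᵥ (_ *ᵥ _) = _
          rw [Matrix.mulVec_mulVec, ← Units.val_mul, ← Subgroup.coe_mul, inv_mul_cancel, Subgroup.coe_one,
            Units.val_one, Matrix.one_mulVec]
        right_inv := fun v => by
          refine Multiplicative.toAdd.injective (funext fun j => ?_)
          show _ *ᵥ (_ *ᵥ _) = _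
          rw [Matrix.mulVec_mulVec, ← Units.val_mul, ← Subgroup.coe_mul, mul_inv_cancel, Subgroup.coe_one,
            Units.val_one, Matrix.one_mulVec]
        map_mul' := fun v w => by
          refine Multiplicative.toAdd.injective (funext fun j => ?_)
          exact Matrix.mulVec_add _ _ _ })
    fun g h => MulEquiv.ext fun v => Multiplicative.toAdd.injective (funext fun j =>
      (Matrix.mulVec_mulVec _ _ _).symm)

theorem pow_left_gen {R ι : Type} [CommRing R] [Fintype ι] [DecidableEq ι] (G : Subgroup (Matrix ι ι R)ˣ)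
    (k : ℕ) (x : SemidirectProduct (Multiplicative (Fin k → ι → R)) ↥G (actGen G k)) (n : ℕ) (j : Fin k) :
    (x ^ n).left.toAdd j =
      (∑ i ∈ range n, (Units.val (x.right : (Matrix ι ι R)ˣ)) ^ i) *ᵥ x.left.toAdd j := by
  induction n with
  | zero => simp
  | succ n ih =>
    rw [pow_succ, SemidirectProduct.mul_left, Finset.sum_range_succ, Matrix.add_mulVec, ← ih]
    show (x ^ n).left.toAdd j + Units.val ((x ^ n).right : (Matrix ι ι R)ˣ) *ᵥ x.left.toAdd j = _
    rw [show (x ^ n).right = x.right ^ n from map_pow (SemidirectProduct.rightHom) x n, SubgroupClass.coe_pow,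
      Units.val_pow_eq_pow_val]

/-- The extension. -/
abbrev Ext (k : ℕ) : Type := SemidirectProduct (Multiplicative (Tup k)) ↥rootGroup (actGen rootGroup k)

theorem tup_add_self (k : ℕ) (w : Tup k) : w + w = 0 := by
  funext j p
  exact (show ∀ a : ZMod 2, a + a = 0 by decide) _

theorem range_orderOf_ext (k : ℕ) : Set.range (orderOf : Ext k → ℕ) = Set.range (orderOf : ↥rootGroup → ℕ) := by
  refine Set.Subset.antisymm ?_ ?_
  · rintro _ ⟨x, rfl⟩
    rw [range_orderOf_rootGroup, Finset.mem_coe]
    have hr : ∀ n, ((x.right : Mat24ˣ) : Mat24) ^ n = 1 → (x ^ n).right = 1 := fun n hn => by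
      rw [show (x ^ n).right = x.right ^ n from map_pow (SemidirectProduct.rightHom) x n]
      exact Subtype.ext (Units.ext (((congrArg Units.val (SubgroupClass.coe_pow x.right n)).trans
        (Units.val_pow_eq_pow_val _ _)).trans hn))
    rcases ord_of_mem x.right.2 with ⟨n, hn, e⟩ | ⟨n, hn, e⟩
    · have h : x ^ (n + n) = 1 := by
        have hn1 := hr n e
        refine SemidirectProduct.ext ?_ ?_
        · rw [pow_add, SemidirectProduct.mul_left, hn1, map_one, MulAut.one_apply, SemidirectProduct.one_left]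
          exact Multiplicative.toAdd.injective (tup_add_self k _)
        · rw [pow_add, SemidirectProduct.mul_right, hn1, one_mul, SemidirectProduct.one_right]
      have hd := orderOf_dvd_of_pow_eq_one h
      simp only [List.mem_cons, List.not_mem_nil, or_false] at hn
      rcases hn with rfl | rfl | rfl
      exacts [spec_of_dvd (k := 8) (by simp) hd, spec_of_dvd (k := 12) (by simp) hd,
        spec_of_dvd (k := 28) (by simp) hd]
    · refine spec_of_dvd hn (orderOf_dvd_of_pow_eq_one (SemidirectProduct.ext ?_ (hr n ?_)))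
      · refine Multiplicative.toAdd.injective (funext fun j => ?_)
        rw [pow_left_gen rootGroup k x n j, e, Matrix.zero_mulVec]
        rfl
      · rw [← sub_eq_zero, ← geom_sum_mul, e, zero_mul]
  · rintro _ ⟨g, rfl⟩
    exact ⟨SemidirectProduct.inr g, orderOf_injective _ SemidirectProduct.inr_injective g⟩

theorem exists_large {K : Type*} [Field K] [Fintype K] (hK : Fintype.card K = 8) (N : ℕ) :
    ∃ (H : Type) (_ : Group H) (_ : Fintype H), N < Fintype.card H ∧
      Set.range (orderOf : H → ℕ) = Set.range (orderOf : Cfsg.Lie.twistedD4 K 2 → ℕ) := by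
  classical
  obtain ⟨ψ, hinj, hrange⟩ := exists_model hK
  have : Finite (Ext N) := Finite.of_equiv _ SemidirectProduct.equivProd.symm
  let i : Fintype (Ext N) := Fintype.ofFinite _
  refine ⟨Ext N, inferInstance, i, ?_, ?_⟩
  · rw [← Nat.card_eq_fintype_card, SemidirectProduct.card]
    refine lt_of_lt_of_le ?_ (Nat.le_mul_of_pos_right _ Nat.card_pos)
    rw [Nat.card_congr Multiplicative.toAdd, Nat.card_eq_fintype_card, Fintype.card_fun, Fintype.card_fin]
    exact Nat.lt_pow_self (by simp)
  · rw [range_orderOf_ext]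
    have e : ↥(Cfsg.Lie.twistedD4 K 2) ≃* ↥rootGroup :=
      (MonoidHom.ofInjective hinj).trans (MulEquiv.subgroupCongr hrange)
    rw [← e.surjective.range_comp (orderOf : ↥rootGroup → ℕ)]
    exact congrArg Set.range (funext fun g => orderOf_injective e.toMonoidHom e.injective g)

end CfsgLib.Recognition.TrialitySpectrum
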