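import Cfsg.Agent.Lib.Recognition.TrialitySpectrum.Hom

/-!
The triality group over the field with two elements is the group generated by the eight root matrices.
-/

set_option autoImplicit false
set_option maxRecDepth 20000

namespace CfsgLib.Recognition.TrialitySpectrum

open CfsgLib.Chevalley CfsgLib.Chevalley.Tbl CfsgLib.Chevalley.Natural

local notation "T4" => Data.D4.tbl

/-- A product of generators. -/
def genProd (l : List ℕ) : ℕ := l.foldr (fun i r => mulN (gens.getD i 0) r) one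

/-- A power. -/
def powN (g : ℕ) : ℕ → ℕ
  | 0 => one
  | n + 1 => mulN g (powN g n)

/-- Difference from the identity. -/
def isNe (g : ℕ) : Bool := (List.range 576).any fun p => g.testBit p != one.testBit p

/-- The key of a root matrix. -/
def hasKey (e : ℕ × ℕ × ℕ) (r k : ℕ) : Bool := Nat.beq e.1 r && Nat.beq e.2.1 k

/-- The roots of the two short orbits. -/
def orbRoots : List (ℕ × ℕ × ℕ) := [(18, 13, 12), (5, 10, 11)]

theorem long_ok : ((List.range 2).all fun i => rootMats.any fun e =>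
    hasKey e ([14, 9].getD i 0) 0 && Nat.beq e.2.2 (gens.getD i 0)) = true := by decide +kernel

theorem orbit_ok : ((List.range 2).all fun ti => (List.range 7).all fun k =>
    let R := orbRoots.getD ti (0, 0, 0)
    let l := (orbitWords.getD ti []).getD k []
    (l.all fun i => Nat.blt i 8) && rootMats.any fun e₁ => hasKey e₁ R.1 k && rootMats.any fun e₂ =>
      hasKey e₂ R.2.1 (2 * k % 7) && rootMats.any fun e₃ => hasKey e₃ R.2.2 (4 * k % 7) &&
        Nat.beq (mulN e₁.2.2 (mulN e₂.2.2 e₃.2.2)) (genProd l)) = true := by decide +kernel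

theorem gens_hit : ((List.range 8).all fun i => Nat.blt i 2 || (List.range 2).any fun ti =>
    (List.range 7).any fun k => decide ((orbitWords.getD ti []).getD k [] = [i])) = true := by decide +kernel

theorem gens_length : gens.length = 8 := by decide +kernel

theorem gens_idx_ok : (gens.all fun g => (List.range 8).any fun i => Nat.beq (gens.getD i 0) g) = true := by
  decide +kernel

theorem gens_index (n : ℕ) (hn : n ∈ gens) : ∃ i < 8, gens.getD i 0 = n := by
  have h := List.all_eq_true.mp gens_idx_ok n hn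
  simp only [List.any_eq_true, List.mem_range, beq_true_iff] at h
  exact h

theorem gen_ne : isNe (gens.getD 0 0) = true := by decide +kernel

theorem witnesses_ok : ([8, 12, 13, 18, 21, 28].all fun n => witnesses.any fun e => Nat.beq e.1 n &&
    (e.2.all fun i => Nat.blt i 8) && Nat.beq (powN (genProd e.2) n) one &&
    ((List.range n).all fun m => Nat.beq m 0 || isNe (powN (genProd e.2) m))) = true := by decide +kernel

theorem mat_powN (g : ℕ) : ∀ n, mat (powN g n) = mat g ^ n
  | 0 => by rw [powN, mat_one, pow_zero]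
  | n + 1 => by rw [powN, mat_mulN, mat_powN g n, pow_succ']

theorem mat_ne_one {g : ℕ} (h : isNe g = true) : mat g ≠ 1 := by
  intro e
  simp only [isNe, List.any_eq_true, List.mem_range, bne_iff_ne] at h
  obtain ⟨p, hp, hne⟩ := h
  rw [← mat_one] at e
  have h2 := congrFun (congrFun e ⟨p / 24, by omega⟩) ⟨p % 24, Nat.mod_lt _ (by norm_num)⟩
  simp only [mat, Matrix.of_apply, Nat.div_add_mod] at h2
  revert h2 hne
  cases g.testBit p <;> cases one.testBit p <;> decide

theorem getD_mem_gens {i : ℕ} (hi : i < 8) : gens.getD i 0 ∈ gens := by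
  rw [List.getD_eq_getElem _ _ (by rw [gens_length]; exact hi)]
  exact List.getElem_mem _

theorem exists_gen {n : ℕ} (hn : n ∈ gens) : ∃ g ∈ rootGroup, (g : Mat24) = mat n := by
  refine ⟨⟨mat n, mat n, gens_sq hn, gens_sq hn⟩, Subgroup.subset_closure ⟨n, hn, rfl⟩, rfl⟩

theorem exists_genProd : ∀ {l : List ℕ}, (∀ i ∈ l, i < 8) → ∃ g ∈ rootGroup, (g : Mat24) = mat (genProd l)
  | [], _ => ⟨1, one_mem _, by rw [genProd, List.foldr_nil, mat_one]; rfl⟩
  | a :: l, h => by
    obtain ⟨g, hg, eg⟩ := exists_genProd fun i hi => h i (List.mem_cons_of_mem _ hi)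
    obtain ⟨x, hx, ex⟩ := exists_gen (getD_mem_gens (h a List.mem_cons_self))
    refine ⟨x * g, mul_mem hx hg, ?_⟩
    rw [Units.val_mul, ex, eg, show genProd (a :: l) = mulN (gens.getD a 0) (genProd l) from rfl, mat_mulN]

theorem mat_genProd_single (i : ℕ) : mat (genProd [i]) = mat (gens.getD i 0) := by
  unfold genProd
  rw [List.foldr_cons, List.foldr_nil, mat_mulN, mat_one, mul_one]

section Model

variable {K : Type*} [Field K] [Fintype K]

theorem exists_model (hK : Fintype.card K = 8) :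
    ∃ ψ : ↥(Cfsg.Lie.twistedD4 K 2) →* Mat24ˣ, Function.Injective ψ ∧ ψ.range = rootGroup := by
  classical
  obtain ⟨α, L, hL, hcases, h7, h2⟩ := exists_field K hK
  have hsimple := (Cfsg.Agent.S1071.result (K := K) (q := 2) (Nat.prime_two.isPrimePow) (hK.trans (by norm_num))).1
  have : CharP K 2 := CharTwo.of_one_ne_zero_of_two_eq_zero one_ne_zero h2
  obtain ⟨φ, hφ⟩ := exists_hom (K := K)
  suffices h : ∀ D : Cfsg.Lie.ChevalleyDatum, D = (T4).datum →
      IsSimpleGroup ↥(D.genSubgroup K (Cfsg.Lie.d4Words K 2)) →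
        ∃ ψ : ↥(D.genSubgroup K (Cfsg.Lie.d4Words K 2)) →* Mat24ˣ, Function.Injective ψ ∧ ψ.range = rootGroup from
    h _ Data.D4.datum_eq.symm hsimple
  clear hsimple
  rintro D rfl hsimple
  let G0 := (T4).datum.genSubgroup K (Cfsg.Lie.d4Words K 2)
  have hT : (T4).Valid := natD4_nat.st.valid
  have hword : ∀ w ∈ Cfsg.Lie.d4Words K 2, (∀ p ∈ w, p.1 < (T4).n) ∧
      ((∃ i < 2, ∃ t : K, t ^ 2 = t ∧ w = [([14, 9].getD i 0, t)]) ∨
        ∃ ti < 2, ∃ t : K, w = [((orbRoots.getD ti (0, 0, 0)).1, t), ((orbRoots.getD ti (0, 0, 0)).2.1, t ^ 2),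
          ((orbRoots.getD ti (0, 0, 0)).2.2, t ^ 4)]) := by
    rintro w (⟨t, ht, r, hr, rfl⟩ | ⟨t, rs, hrs, rfl⟩)
    · simp only [List.mem_cons, List.not_mem_nil, or_false] at hr
      rcases hr with rfl | rfl
      · exact ⟨fun p hp => by rw [List.mem_singleton] at hp; subst hp; show 14 < 24; norm_num,
          Or.inl ⟨0, by norm_num, t, ht, rfl⟩⟩
      · exact ⟨fun p hp => by rw [List.mem_singleton] at hp; subst hp; show 9 < 24; norm_num,
          Or.inl ⟨1, by norm_num, t, ht, rfl⟩⟩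
    · simp only [List.mem_cons, List.not_mem_nil, or_false] at hrs
      rcases hrs with rfl | rfl
      · refine ⟨fun p hp => ?_, Or.inr ⟨0, by norm_num, t, rfl⟩⟩
        simp only [List.mem_cons, List.not_mem_nil, or_false] at hp
        rcases hp with rfl | rfl | rfl
        exacts [show 18 < 24 by norm_num, show 13 < 24 by norm_num, show 12 < 24 by norm_num]
      · refine ⟨fun p hp => ?_, Or.inr ⟨1, by norm_num, t, rfl⟩⟩
        simp only [List.mem_cons, List.not_mem_nil, or_false] at hp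
        rcases hp with rfl | rfl | rfl
        exacts [show 5 < 24 by norm_num, show 10 < 24 by norm_num, show 11 < 24 by norm_num]
  have hgen : ∀ g : GL (T4).I K, (∃ w ∈ Cfsg.Lie.d4Words K 2,
      (g : Matrix (T4).I (T4).I K) = (T4).datum.wordMat K w) →
        ∃ w ∈ Cfsg.Lie.d4Words K 2, g = (T4).gprod w := by
    rintro g ⟨w, hw, e⟩
    exact ⟨w, hw, Units.ext (e.trans (gprod_wordMat hT (hword w hw).1))⟩
  have hle : G0 ≤ (T4).datum.group K := by
    refine (Subgroup.closure_le _).mpr fun g hg => ?_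
    obtain ⟨w, hw, rfl⟩ := hgen g hg
    exact gprod_mem_group hT (hword w hw).1
  let ψ : ↥G0 →* Mat24ˣ :=
    (Units.map (phi24 L).toMonoidHom).comp (φ.comp (Subgroup.inclusion hle))
  -- images of the words
  have himg : ∀ (w : List (ℕ × K)), (∀ p ∈ w, p.1 < (T4).n) → ∀ (g : ↥((T4).datum.group K)),
      (g : GL (T4).I K) = (T4).gprod w → phi24 L (φ g : Matrix (Fin 4 ⊕ Fin 4) (Fin 4 ⊕ Fin 4) K) =
        (w.map fun p => phi24 L (xM (D := natD4) eD4 p.1 p.2)).prod := by
    intro w hw
    induction w with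
    | nil =>
      intro g hg
      have : g = 1 := Subtype.ext hg
      rw [this, map_one, List.map_nil, List.prod_nil, Units.val_one, map_one]
    | cons p w ih =>
      intro g hg
      have hp := hw p List.mem_cons_self
      have hw' := fun q hq => hw q (List.mem_cons_of_mem p hq)
      have e : g = ⟨_, xU_mem_group hT hp p.2⟩ * ⟨_, gprod_mem_group hT hw'⟩ :=
        Subtype.ext (hg.trans (gprod_cons p w))
      rw [e, map_mul, Units.val_mul, map_mul, List.map_cons, List.prod_cons, hφ p.1 hp p.2 _ rfl,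
        ih hw' _ rfl]
  have hlit : ∀ {e : ℕ × ℕ × ℕ} {r k : ℕ}, e ∈ rootMats → hasKey e r k = true →
      phi24 L (xM (D := natD4) eD4 r (α ^ k)) = mat e.2.2 := by
    rintro ⟨r', k', v⟩ r k he h
    simp only [hasKey, Bool.and_eq_true, beq_true_iff] at h
    obtain ⟨rfl, rfl⟩ := h
    exact phi24_xM hL he
  have hone : ∀ r < 24, phi24 L (xM (D := natD4) eD4 r (0 : K)) = 1 := fun r hr => by
    rw [xM_zero' eD4 natD4_ok (show r < (T4).n from hr), map_one]
  have hlong : ∀ i < 2, phi24 L (xM (D := natD4) eD4 ([14, 9].getD i 0) (1 : K)) = mat (gens.getD i 0) := by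
    intro i hi
    have h := all_range long_ok hi
    simp only [List.any_eq_true, Bool.and_eq_true] at h
    obtain ⟨e, he, hk, hv⟩ := h
    rw [← mat_of_beq hv, ← hlit he hk, pow_zero]
  have horb : ∀ ti < 2, ∀ k < 7, ∃ g ∈ rootGroup, (g : Mat24) = mat (genProd ((orbitWords.getD ti []).getD k [])) ∧
      phi24 L (xM (D := natD4) eD4 (orbRoots.getD ti (0, 0, 0)).1 (α ^ k)) *
        (phi24 L (xM (D := natD4) eD4 (orbRoots.getD ti (0, 0, 0)).2.1 ((α ^ k) ^ 2)) *
          phi24 L (xM (D := natD4) eD4 (orbRoots.getD ti (0, 0, 0)).2.2 ((α ^ k) ^ 4))) = (g : Mat24) := by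
    intro ti hti k hk
    have h := all_range (all_range orbit_ok hti) hk
    simp only [List.any_eq_true, List.all_eq_true, Bool.and_eq_true] at h
    obtain ⟨hl, e₁, he₁, k₁, e₂, he₂, k₂, e₃, he₃, k₃, hv⟩ := h
    obtain ⟨g, hg, eg⟩ := exists_genProd fun i hi => blt_iff.mp (hl i hi)
    have hmod : ∀ n, α ^ n = α ^ (n % 7) := fun n => by
      conv_lhs => rw [← Nat.mod_add_div n 7, pow_add, pow_mul, h7, one_pow, mul_one]
    refine ⟨g, hg, eg, ?_⟩
    rw [← pow_mul, ← pow_mul, hmod (k * 2), hmod (k * 4), mul_comm k 2, mul_comm k 4, hlit he₁ k₁, hlit he₂ k₂,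
      hlit he₃ k₃, eg, ← mat_mulN, ← mat_mulN, mat_of_beq hv]
  have hval : ∀ (w : List (ℕ × K)) (hw : w ∈ Cfsg.Lie.d4Words K 2) (hg : (T4).gprod w ∈ G0),
      ((ψ ⟨_, hg⟩ : Mat24ˣ) : Mat24) = (w.map fun p => phi24 L (xM (D := natD4) eD4 p.1 p.2)).prod :=
    fun w hw hg => himg w (hword w hw).1 _ rfl
  have hmemG : ∀ w ∈ Cfsg.Lie.d4Words K 2, (T4).gprod w ∈ G0 := fun w hw =>
    Subgroup.subset_closure ⟨w, hw, (gprod_wordMat hT (hword w hw).1).symm⟩
  have hrange : ψ.range = rootGroup := by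
    refine le_antisymm ?_ ((Subgroup.closure_le _).mpr ?_)
    · rintro _ ⟨⟨x, hx⟩, rfl⟩
      induction hx using Subgroup.closure_induction with
      | mem g hg =>
        obtain ⟨w, hw, rfl⟩ := hgen g hg
        suffices ∃ g ∈ rootGroup, ((ψ ⟨_, hmemG w hw⟩ : Mat24ˣ) : Mat24) = (g : Mat24) by
          obtain ⟨g, hg, e⟩ := this
          exact (Units.ext e : ψ ⟨_, hmemG w hw⟩ = g) ▸ hg
        rw [hval w hw (hmemG w hw)]
        rcases (hword w hw).2 with ⟨i, hi, t, ht, rfl⟩ | ⟨ti, hti, t, rfl⟩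
        · have hr : [14, 9].getD i 0 < 24 := by interval_cases i <;> norm_num
          simp only [List.map_cons, List.map_nil, List.prod_cons, List.prod_nil, mul_one]
          rcases eq_or_ne t 0 with rfl | h0
          · exact ⟨1, one_mem _, by rw [hone _ hr]; rfl⟩
          · obtain rfl : t = 1 := mul_left_cancel₀ h0 (by rw [mul_one, ← sq, ht])
            obtain ⟨g, hg, eg⟩ := exists_gen (getD_mem_gens (show i < 8 by omega))
            exact ⟨g, hg, by rw [hlong i hi, eg]⟩
        · simp only [List.map_cons, List.map_nil, List.prod_cons, List.prod_nil, mul_one]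
          rcases hcases t with rfl | ⟨k, hk, rfl⟩
          · refine ⟨1, one_mem _, ?_⟩
            have hr : ∀ ti < 2, (orbRoots.getD ti (0, 0, 0)).1 < 24 ∧ (orbRoots.getD ti (0, 0, 0)).2.1 < 24 ∧
                (orbRoots.getD ti (0, 0, 0)).2.2 < 24 := by decide
            obtain ⟨a, b, c⟩ := hr ti hti
            rw [zero_pow two_ne_zero, zero_pow four_ne_zero, hone _ a, hone _ b, hone _ c, one_mul, one_mul]
            rfl
          · obtain ⟨g, hg, -, e⟩ := horb ti hti k hk
            exact ⟨g, hg, e⟩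
      | one => exact (map_one ψ).symm ▸ one_mem _
      | mul a b ha hb iha ihb =>
        rw [show (⟨a * b, mul_mem ha hb⟩ : ↥G0) = ⟨a, ha⟩ * ⟨b, hb⟩ from rfl, map_mul]
        exact mul_mem iha ihb
      | inv a ha iha =>
        rw [show (⟨a⁻¹, inv_mem ha⟩ : ↥G0) = (⟨a, ha⟩ : ↥G0)⁻¹ from rfl, map_inv]
        exact inv_mem iha
    · rintro g ⟨n, hn, e⟩
      obtain ⟨i, hi, hgd⟩ := gens_index n hn
      rw [← hgd] at e
      by_cases h2i : i < 2
      · have hw : [([14, 9].getD i 0, (1 : K))] ∈ Cfsg.Lie.d4Words K 2 :=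
          Or.inl ⟨1, one_pow _, _, (show [14, 9].getD i 0 ∈ [Cfsg.Lie.d4p2, Cfsg.Lie.d4m2] by
            interval_cases i <;> decide), rfl⟩
        refine ⟨⟨_, hmemG _ hw⟩, Units.ext ?_⟩
        rw [hval _ hw, e]
        simp only [List.map_cons, List.map_nil, List.prod_cons, List.prod_nil, mul_one]
        exact hlong i h2i
      · have h := all_range gens_hit hi
        simp only [Bool.or_eq_true, blt_iff, h2i, false_or, List.any_eq_true, List.mem_range, decide_eq_true_eq] at h
        obtain ⟨ti, hti, k, hk, hl⟩ := h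
        have hw : [((orbRoots.getD ti (0, 0, 0)).1, α ^ k), ((orbRoots.getD ti (0, 0, 0)).2.1, (α ^ k) ^ 2),
            ((orbRoots.getD ti (0, 0, 0)).2.2, (α ^ k) ^ (2 ^ 2))] ∈ Cfsg.Lie.d4Words K 2 :=
          Or.inr ⟨α ^ k, orbRoots.getD ti (0, 0, 0), (show orbRoots.getD ti (0, 0, 0) ∈
            [(Cfsg.Lie.d4p1, Cfsg.Lie.d4p3, Cfsg.Lie.d4p4), (Cfsg.Lie.d4m1, Cfsg.Lie.d4m3, Cfsg.Lie.d4m4)] by
              interval_cases ti <;> decide), rfl⟩
        refine ⟨⟨_, hmemG _ hw⟩, Units.ext ?_⟩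
        rw [hval _ hw, e]
        simp only [List.map_cons, List.map_nil, List.prod_cons, List.prod_nil, mul_one]
        obtain ⟨g', -, eg', e'⟩ := horb ti hti k hk
        rw [show (2 : ℕ) ^ 2 = 4 from rfl, e', eg', hl,
          mat_genProd_single]
  refine ⟨ψ, ?_, hrange⟩
  rw [← MonoidHom.ker_eq_bot_iff]
  refine (MonoidHom.normal_ker ψ).eq_bot_or_eq_top.resolve_right fun htop => ?_
  obtain ⟨g, hg, e⟩ := exists_gen (getD_mem_gens (show 0 < 8 by norm_num))
  rw [← hrange] at hg
  obtain ⟨x, rfl⟩ := hg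
  have h1 : ψ x = 1 := MonoidHom.mem_ker.mp (htop ▸ Subgroup.mem_top x : x ∈ ψ.ker)
  rw [h1, Units.val_one] at e
  exact mat_ne_one gen_ne e.symm

end Model

end CfsgLib.Recognition.TrialitySpectrum
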