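import Cfsg.Agent.Lib.Recognition.TrialitySpectrum.Cover
import Cfsg.Agent.Lib.Recognition.TrialitySpectrum.RootData
import Cfsg.Agent.Lib.Chevalley.Natural.NatInst
import Cfsg.Agent.Lib.Chevalley.Twist.InstD4
import Cfsg.Agent.S1071

/-!
The natural module of the triality group over the field with two elements, written over the prime field.
-/

set_option autoImplicit false
set_option maxRecDepth 20000

namespace CfsgLib.Recognition.TrialitySpectrum

open CfsgLib.Chevalley CfsgLib.Chevalley.Tbl CfsgLib.Chevalley.Natural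

/-- Matrices of size three. -/
abbrev Mat3 : Type := Matrix (Fin 3) (Fin 3) (ZMod 2)

/-- The powers of the companion matrix of `X³ + X + 1`. -/
def aPow : List Mat3 :=
  [1, !![0,0,1;1,0,1;0,1,0], !![0,1,0;0,1,1;1,0,1], !![1,0,1;1,1,1;0,1,1], !![0,1,1;1,1,0;1,1,1],
    !![1,1,1;1,0,0;1,1,0], !![1,1,0;0,0,1;1,0,0]]

theorem aPow_ok : ∀ k < 7, aPow.getD k 0 = (!![0,0,1;1,0,1;0,1,0] : Mat3) ^ k := by decide +kernel

section Field

theorem zmod2_cases : ∀ a : ZMod 2, a = 0 ∨ a = 1 := by decide

variable (K : Type*) [Field K] [Fintype K]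

theorem exists_field (hK : Fintype.card K = 8) : ∃ (α : K) (L : K →+* Mat3),
    (∀ k < 7, L (α ^ k) = aPow.getD k 0) ∧ (∀ t : K, t = 0 ∨ ∃ k < 7, t = α ^ k) ∧ α ^ 7 = 1 ∧ (2 : K) = 0 := by
  classical
  have h8 : ((8 : ℕ) : K) = 0 := by rw [← hK]; exact FiniteField.cast_card_eq_zero K
  have h2 : (2 : K) = 0 := by
    have : (2 : K) ^ 3 = 0 := by rw [← h8]; norm_num
    exact pow_eq_zero_iff (three_ne_zero) |>.mp this
  have : Fact (Nat.Prime 2) := ⟨Nat.prime_two⟩
  have : CharP K 2 := CharTwo.of_one_ne_zero_of_two_eq_zero one_ne_zero h2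
  have h7 : ∀ x : K, x ≠ 0 → x ^ 7 = 1 := fun x hx => by
    have := FiniteField.pow_card_sub_one_eq_one x hx
    rwa [hK] at this
  obtain ⟨x, hx0, hx1⟩ : ∃ x : K, x ≠ 0 ∧ x ≠ 1 := by
    by_contra h
    push Not at h
    have : (Finset.univ : Finset K) ⊆ {0, 1} := fun x _ => by
      rcases eq_or_ne x 0 with e | e
      · simp [e]
      · simp [h x e]
    have := Finset.card_le_card this
    rw [Finset.card_univ, hK] at this
    have := this.trans Finset.card_le_two
    omega
  obtain ⟨α, hα⟩ : ∃ α : K, α ^ 3 = α + 1 := by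
    have e : (x - 1) * ((x ^ 3 + x + 1) * (x ^ 3 + x ^ 2 + 1)) = 0 := by
      linear_combination h7 x hx0 + (x ^ 4 - x ^ 3) * h2
    rcases mul_eq_zero.mp ((mul_eq_zero.mp e).resolve_left (sub_ne_zero.mpr hx1)) with h | h
    · exact ⟨x, by linear_combination h - (x + 1) * h2⟩
    · refine ⟨x⁻¹, ?_⟩
      field_simp
      linear_combination h - (x ^ 3 + x ^ 2) * h2
  have hα0 : α ≠ 0 := fun e => by simp [e] at hα
  have n2 : α ^ 2 + α + 1 ≠ 0 := fun e => by
    have : α = 0 := by linear_combination (α - 1) * e - hα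
    exact hα0 this
  letI : Algebra (ZMod 2) K := ZMod.algebra K 2
  have hli : LinearIndependent (ZMod 2) ![1, α, α ^ 2] := by
    rw [Fintype.linearIndependent_iff]
    intro g hg
    simp only [Fin.sum_univ_three, Matrix.cons_val_zero, Matrix.cons_val_one, Matrix.cons_val_two, Matrix.head_cons,
      Matrix.tail_cons, Algebra.smul_def, mul_one] at hg
    have hc := zmod2_cases
    have hne1 : α ≠ 1 := fun e => by
      rw [e, one_pow] at hα
      exact one_ne_zero (show (1 : K) = 0 by linear_combination h2 + (-1 : K) * h2 + (-1 : K) * hα)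
    have k3 : α ^ 2 + α ≠ 0 := fun e => hne1 (by
      have : α * (α + 1) = 0 := by linear_combination e
      linear_combination (mul_eq_zero.mp this).resolve_left hα0 - h2)
    have k4 : α ^ 2 + 1 ≠ 0 := fun e => hne1 (by
      have : (α - 1) * (α - 1) = 0 := by linear_combination e - α * h2
      exact sub_eq_zero.mp (mul_self_eq_zero.mp this))
    have k5 : α + 1 ≠ 0 := fun e => hne1 (by linear_combination e - h2)
    intro i
    rcases hc (g 0) with e0 | e0 <;> rcases hc (g 1) with e1 | e1 <;> rcases hc (g 2) with e2 | e2 <;>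
      rw [e0, e1, e2] at hg <;> simp only [map_zero, map_one, zero_mul, one_mul, zero_add, add_zero] at hg
    all_goals first
      | (fin_cases i <;> assumption)
      | exact absurd hg one_ne_zero
      | exact absurd hg hα0
      | exact absurd hg (pow_ne_zero 2 hα0)
      | exact absurd ((add_comm _ _).trans hg) k5
      | exact absurd ((add_comm _ _).trans hg) k4
      | exact absurd ((add_comm _ _).trans hg) k3
      | exact absurd ((show α ^ 2 + α + 1 = 1 + α + α ^ 2 by ring).trans hg) n2
  have hfr : Module.finrank (ZMod 2) K = 3 := by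
    have h := Module.card_eq_pow_finrank (K := ZMod 2) (V := K)
    rw [ZMod.card, hK] at h
    exact (Nat.pow_right_injective le_rfl (show 2 ^ 3 = 2 ^ Module.finrank (ZMod 2) K by simpa using h)).symm
  let b : Module.Basis (Fin 3) (ZMod 2) K :=
    basisOfLinearIndependentOfCardEqFinrank hli (by rw [Fintype.card_fin, hfr])
  have hb : ⇑b = ![1, α, α ^ 2] := coe_basisOfLinearIndependentOfCardEqFinrank _ _
  let L : K →+* Mat3 := (Algebra.leftMulMatrix b).toRingHom
  have hL : L α = !![0,0,1;1,0,1;0,1,0] := by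
    ext i j
    show Algebra.leftMulMatrix b α i j = _
    rw [Algebra.leftMulMatrix_eq_repr_mul]
    fin_cases j <;> simp only [Fin.zero_eta, Fin.mk_one, Fin.reduceFinMk, Fin.isValue]
    · rw [show α * b 0 = b 1 by simp [hb], Module.Basis.repr_self]
      fin_cases i <;> simp
    · rw [show α * b 1 = b 2 by simp [hb, pow_two], Module.Basis.repr_self]
      fin_cases i <;> simp
    · rw [show α * b 2 = b 0 + b 1 by simp [hb]; linear_combination hα, map_add, Module.Basis.repr_self,
        Module.Basis.repr_self]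
      fin_cases i <;> simp
  have h7' := h7 α hα0
  refine ⟨α, L, fun k hk => by rw [map_pow, hL, aPow_ok k hk], fun t => ?_, h7', h2⟩
  rw [← b.sum_repr t, Fin.sum_univ_three]
  simp only [hb, Matrix.cons_val_zero, Matrix.cons_val_one, Matrix.cons_val_two, Matrix.head_cons, Matrix.tail_cons,
    Algebra.smul_def, mul_one]
  have hc := zmod2_cases
  rcases hc (b.repr t 0) with e0 | e0 <;> rcases hc (b.repr t 1) with e1 | e1 <;> rcases hc (b.repr t 2) with e2 | e2 <;>
    rw [e0, e1, e2] <;> simp only [map_zero, map_one, zero_mul, one_mul, zero_add, add_zero]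
  · exact Or.inl trivial
  · exact Or.inr ⟨2, by norm_num, rfl⟩
  · exact Or.inr ⟨1, by norm_num, (pow_one α).symm⟩
  · exact Or.inr ⟨4, by norm_num, by linear_combination -α * hα⟩
  · exact Or.inr ⟨0, by norm_num, (pow_zero α).symm⟩
  · exact Or.inr ⟨6, by norm_num, by linear_combination (-α ^ 3 - α - 1) * hα - α * h2⟩
  · exact Or.inr ⟨3, by norm_num, by linear_combination -hα⟩
  · exact Or.inr ⟨5, by norm_num, by linear_combination (-α ^ 2 - 1) * hα⟩

end Field

/-- The coordinates over the prime field. -/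
def e24 : (Fin 4 ⊕ Fin 4) × Fin 3 ≃ Fin 24 :=
  ((finSumFinEquiv (m := 4) (n := 4)).prodCongr (Equiv.refl (Fin 3))).trans finProdFinEquiv

section Rep

variable {K : Type*} [Field K]

/-- An entry of the value of a list of monomials. -/
def entry (R : Type*) [Ring R] (t : R) (P : List PTm) (a b : ℕ) : R :=
  (P.map fun p => if p.2.2.1 = a ∧ p.2.2.2.1 = b then (p.2.2.2.2 : R) * t ^ p.1 * (0 : R) ^ p.2.1 else 0).sum

theorem ev_entry (t : K) (P : List PTm) (a b : Fin natD4.n) :
    ev eD4 t 0 P (eD4 a) (eD4 b) = entry K t P a.val b.val := by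
  induction P with
  | nil => simp [ev, entry]
  | cons p P ih =>
    rw [ev_cons, Matrix.add_apply, ih]
    show _ = List.sum (_ :: _)
    rw [List.sum_cons]
    congr 1
    rw [evT, Matrix.smul_apply, unitM, smul_eq_mul]
    beta_reduce
    by_cases h : p.2.2.1 < natD4.n ∧ p.2.2.2.1 < natD4.n
    · rw [dif_pos h, Matrix.single_apply]
      by_cases h2 : p.2.2.1 = a.val ∧ p.2.2.2.1 = b.val
      · rw [if_pos h2, if_pos ⟨congrArg eD4 (Fin.ext h2.1), congrArg eD4 (Fin.ext h2.2)⟩, mul_one]
      · rw [if_neg h2, if_neg, mul_zero]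
        exact fun e => h2 ⟨congrArg Fin.val (eD4.injective e.1), congrArg Fin.val (eD4.injective e.2)⟩
    · rw [dif_neg h, if_neg, Matrix.zero_apply, mul_zero]
      exact fun e => h ⟨e.1 ▸ a.2, e.2 ▸ b.2⟩

theorem map_entry {R : Type*} [Ring R] (L : K →+* R) (t : K) (P : List PTm) (a b : ℕ) :
    L (entry K t P a b) = entry R (L t) P a b := by
  rw [entry, entry, map_list_sum, List.map_map]
  refine congrArg List.sum (List.map_congr_left fun p _ => ?_)
  simp only [Function.comp_apply, apply_ite L, map_mul, map_intCast, map_pow, map_zero]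

/-- A matrix of blocks as a single matrix. -/
def flat {ι κ σ R : Type*} [Fintype ι] [Fintype κ] [Fintype σ] [DecidableEq ι] [DecidableEq κ] [DecidableEq σ]
    [Semiring R] (e : ι × κ ≃ σ) : Matrix ι ι (Matrix κ κ R) →+* Matrix σ σ R where
  toFun M := Matrix.of fun p q => M (e.symm p).1 (e.symm q).1 (e.symm p).2 (e.symm q).2
  map_one' := by
    ext p q
    obtain ⟨⟨i, r⟩, rfl⟩ := e.surjective p
    obtain ⟨⟨j, c⟩, rfl⟩ := e.surjective q
    simp only [Matrix.of_apply, Equiv.symm_apply_apply, Matrix.one_apply, e.injective.eq_iff, Prod.mk.injEq]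
    by_cases h : i = j <;> simp [h, Matrix.one_apply]
  map_mul' M N := by
    ext p q
    simp only [Matrix.of_apply, Matrix.mul_apply, Matrix.sum_apply]
    rw [← e.sum_comp, Fintype.sum_prod_type]
    simp
  map_zero' := by ext p q; simp
  map_add' M N := by ext p q; simp

/-- The change of the field of coefficients. -/
noncomputable def phi24 (L : K →+* Mat3) : Matrix (Fin 4 ⊕ Fin 4) (Fin 4 ⊕ Fin 4) K →+* Mat24 :=
  (flat e24).comp L.mapMatrix

/-- A coordinate over the prime field as a pair. -/
def split24 (p : Fin 24) : Fin natD4.n × Fin 3 :=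
  (⟨p.val / 3, by show p.val / 3 < 8; omega⟩, ⟨p.val % 3, Nat.mod_lt _ (by norm_num)⟩)

theorem split24_ok : ∀ p : Fin 24, e24.symm p = (eD4 (split24 p).1, (split24 p).2) := by decide +kernel

theorem phi24_apply (L : K →+* Mat3) (M : Matrix (Fin 4 ⊕ Fin 4) (Fin 4 ⊕ Fin 4) K) (p q : Fin 24) :
    phi24 L M p q = L (M (eD4 (split24 p).1) (eD4 (split24 q).1)) (split24 p).2 (split24 q).2 := by
  show L.mapMatrix M (e24.symm p).1 (e24.symm q).1 (e24.symm p).2 (e24.symm q).2 = _
  rw [split24_ok, split24_ok]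
  rfl

theorem entry_filter {R : Type*} [Ring R] (t : R) (P : List PTm) (a b : ℕ) :
    entry R t P a b =
      entry R t (P.filter fun p => Nat.beq p.2.2.1 a && Nat.beq p.2.2.2.1 b) a b := by
  induction P with
  | nil => rfl
  | cons p P ih =>
    by_cases h : p.2.2.1 = a ∧ p.2.2.2.1 = b
    · rw [List.filter_cons_of_pos (by simp [h.1, h.2]), entry, entry, List.map_cons, List.map_cons, List.sum_cons,
        List.sum_cons]
      exact congrArg _ ih
    · have hb : ¬ ((Nat.beq p.2.2.1 a && Nat.beq p.2.2.2.1 b) = true) := fun e => by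
        simp only [Bool.and_eq_true] at e
        exact h ⟨Nat.eq_of_beq_eq_true e.1, Nat.eq_of_beq_eq_true e.2⟩
      rw [List.filter_cons_of_neg (by simpa using hb), entry, List.map_cons, List.sum_cons, if_neg h, zero_add]
      exact ih

/-- The tabulated root matrices are those of the natural module. -/
def RootOk (e : ℕ × ℕ × ℕ) : Prop :=
  ∀ p q : Fin 24, entry Mat3 (aPow.getD e.2.1 0)
    ((natD4.xP e.1 1 1 0).filter fun d => Nat.beq d.2.2.1 (split24 p).1.val && Nat.beq d.2.2.2.1 (split24 q).1.val)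
    (split24 p).1.val (split24 q).1.val (split24 p).2 (split24 q).2 = bif e.2.2.testBit (24 * p.val + q.val) then 1 else 0

instance (e : ℕ × ℕ × ℕ) : Decidable (RootOk e) := by unfold RootOk; infer_instance

theorem rootMats_ok : ∀ e ∈ rootMats, RootOk e ∧ e.2.1 < 7 := by decide +kernel

theorem phi24_xM {L : K →+* Mat3} {α : K} (hL : ∀ k < 7, L (α ^ k) = aPow.getD k 0) {r k v : ℕ}
    (h : (r, k, v) ∈ rootMats) : phi24 L (xM (D := natD4) eD4 r (α ^ k)) = mat v := by
  obtain ⟨h1, h2⟩ := rootMats_ok _ h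
  ext p q
  rw [phi24_apply, xM, ev_entry, map_entry, hL k h2, entry_filter]
  exact h1 p q

end Rep

end CfsgLib.Recognition.TrialitySpectrum
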