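import Cfsg.Agent.Lib.Recognition.TrialitySpectrum.Check

/-!
Rules for the positive part, the torus and the reflections, checked on packed matrices.
-/

set_option autoImplicit false
set_option maxRecDepth 100000

namespace CfsgLib.Recognition.TrialitySpectrum

theorem basic : (Nat.beq (uel (0, 0)) one && Nat.beq (zp.getD 0 0) one && Nat.beq (nw.getD 0 0) one &&
    Nat.beq (partA.getD 0 0) one && Nat.beq (partB.getD 0 0) one && gens.all fun g => Nat.beq (mulN g g) one) = true := by
  decide +kernel

theorem lmul_ok : ((List.range 4).all fun k => (List.range 128).all fun i =>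
    let p := (lmulA.getD k []).getD i (0, 0)
    uok p && Nat.beq (mulN (posGens.getD k 0) (partA.getD i 0)) (uel p)) = true := by decide +kernel

theorem bxor_ok : ((List.range 32).all fun i => (List.range 32).all fun j =>
    Nat.blt (i ^^^ j) 32 && Nat.beq (mulN (partB.getD i 0) (partB.getD j 0)) (partB.getD (i ^^^ j) 0)) = true := by
  decide +kernel

theorem wordA_ok : ((List.range 128).all fun i => ((wordA.getD i []).all fun k => Nat.blt k 4) &&
    Nat.beq (wordN (wordA.getD i [])) (partA.getD i 0)) = true := by decide +kernel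

theorem wordB_ok : ((List.range 5).all fun m => ((wordB.getD m []).all fun k => Nat.blt k 4) &&
    Nat.beq (wordN (wordB.getD m [])) (partB.getD (2 ^ m) 0)) = true := by decide +kernel

theorem partB_basis : ((List.range 32).all fun j =>
    Nat.beq ((List.range 5).foldr (fun m r => bif j.testBit m then mulN (partB.getD (2 ^ m) 0) r else r) one)
      (partB.getD j 0)) = true := by decide +kernel

theorem torus_ok : ((List.range 7).all fun i =>
    Nat.beq (mulN (zp.getD i 0) (zp.getD 1 0)) (zp.getD ((i + 1) % 7) 0)) = true := by decide +kernel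

theorem torusA_ok : ((List.range 128).all fun i => Nat.blt (zA.getD i 0) 128 &&
    Nat.beq (mulN (zp.getD 1 0) (partA.getD i 0)) (mulN (partA.getD (zA.getD i 0) 0) (zp.getD 1 0))) = true := by
  decide +kernel

theorem torusB_ok : ((List.range 32).all fun i => Nat.blt (zB.getD i 0) 32 &&
    Nat.beq (mulN (zp.getD 1 0) (partB.getD i 0)) (mulN (partB.getD (zB.getD i 0) 0) (zp.getD 1 0))) = true := by
  decide +kernel

theorem ns_ok : ((List.range 2).all fun s => Nat.blt (zn.getD s 0) 7 &&
    Nat.beq (mulN (ns.getD s 0) (ns.getD s 0)) one &&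
    Nat.beq (mulN (ns.getD s 0) (zp.getD 1 0)) (mulN (zp.getD (zn.getD s 0) 0) (ns.getD s 0))) = true := by
  decide +kernel

theorem nw_ok : ((List.range 12).all fun w =>
    Nat.beq (mulN (nw.getD w 0) (zp.getD 1 0)) (mulN (zp.getD (kw.getD w 0) 0) (nw.getD w 0)) &&
    (Nat.beq (kw.getD w 0) 1 || Nat.beq (kw.getD w 0) 6)) = true := by decide +kernel

theorem moveA_ok : ((List.range 2).all fun s => (List.range 128).all fun i =>
    let e := (moveA.getD s []).getD i ((0, 0), 0)
    uok e.1 && Nat.blt e.2 (xs.getD s []).length &&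
    Nat.beq (mulN (ns.getD s 0) (partA.getD i 0))
      (mulN (uel e.1) (mulN (ns.getD s 0) ((xs.getD s []).getD e.2 0)))) = true := by decide +kernel

theorem moveB_ok : ((List.range 2).all fun s => (List.range (xs.getD s []).length).all fun c =>
    (List.range 5).all fun m =>
    let p := (moveB.getD s []).getD (5 * c + m) (0, 0)
    uok p && Nat.beq (mulN (mulN (ns.getD s 0) ((xs.getD s []).getD c 0)) (partB.getD (2 ^ m) 0))
      (mulN (uel p) (mulN (ns.getD s 0) ((xs.getD s []).getD c 0)))) = true := by decide +kernel

theorem xs_ok : ((List.range 2).all fun s => (List.range (xs.getD s []).length).all fun c =>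
    let p := (xsIdx.getD s []).getD c (0, 0)
    uok p && Nat.beq ((xs.getD s []).getD c 0) (uel p)) = true := by decide +kernel

theorem cells_ok : (cells.all fun e => Nat.blt e.2.2.2.1 128 && Nat.blt e.2.2.2.2.1 7 &&
    Nat.blt e.2.2.2.2.2.1 12 && uok e.2.2.2.2.2.2 &&
    Nat.beq (mulN (mulN (ns.getD e.1 0) ((xs.getD e.1 []).getD e.2.2.1 0)) (nw.getD e.2.1 0))
      (mulN (mulN (mulN (partA.getD e.2.2.2.1 0) (zp.getD e.2.2.2.2.1 0)) (nw.getD e.2.2.2.2.2.1 0))
        (uel e.2.2.2.2.2.2))) = true := by decide +kernel

theorem cells_cover : ((List.range 2).all fun s => (List.range 12).all fun w =>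
    (List.range (xs.getD s []).length).all fun c =>
      cells.any fun e => Nat.beq e.1 s && Nat.beq e.2.1 w && Nat.beq e.2.2.1 c) = true := by decide +kernel

theorem gens_ok : (gens.all fun g => (List.range 4).any (fun k => Nat.beq (posGens.getD k 0) g) ||
    negGens.any (fun e => Nat.blt e.2.1 2 && Nat.blt e.2.2 (xs.getD e.2.1 []).length &&
      Nat.beq g (mulN (mulN (ns.getD e.2.1 0) ((xs.getD e.2.1 []).getD e.2.2 0)) (ns.getD e.2.1 0)))) = true := by
  decide +kernel

theorem posGens_ok : ((List.range 4).all fun k => gens.any fun g => Nat.beq g (posGens.getD k 0)) = true := by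
  decide +kernel

/-- Following an orbit of the torus to a representative. -/
def findRep : ℕ → ℕ → ℕ → Bool
  | 0, _, _ => false
  | n + 1, i, l => (repMask.getD i 0).testBit l || findRep n (zA.getD i 0) (zB.getD l 0)

theorem rep_cover : ((List.range 128).all fun i => (List.range 32).all fun l => findRep 7 i l) = true := by
  decide +kernel

end CfsgLib.Recognition.TrialitySpectrum
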